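import Mathlib

/-!
Elementary lemmas for doubly transitive groups with Z-group point stabilisers.
-/

set_option autoImplicit false

namespace Cfsg.Agent.H36.CyZ

open MulAction

variable {G Ω : Type*} [Group G] [MulAction G Ω]

theorem exists_map_pair (h2 : IsMultiplyPretransitive G Ω 2) {a b c d : Ω} (hab : a ≠ b)
    (hcd : c ≠ d) : ∃ g : G, g • a = c ∧ g • b = d :=
  is_two_pretransitive_iff.mp h2 hab hcd

theorem isTrans (h2 : IsMultiplyPretransitive G Ω 2) : IsPretransitive G Ω :=
  have := h2
  isPretransitive_of_is_two_pretransitive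

theorem isPrim (h2 : IsMultiplyPretransitive G Ω 2) : IsPreprimitive G Ω :=
  have := h2
  isPreprimitive_of_is_two_pretransitive ‹_›

/-- A non-trivial normal subgroup is transitive. -/
theorem normal_trans [FaithfulSMul G Ω] (h2 : IsMultiplyPretransitive G Ω 2) (N : Subgroup G)
    [N.Normal] (hN : N ≠ ⊥) (x y : Ω) : ∃ n ∈ N, n • x = y := by
  have := isPrim h2
  have hfix : fixedPoints N Ω ≠ Set.univ := by
    intro h
    refine hN ((Subgroup.eq_bot_iff_forall _).2 fun n hn => ?_)
    refine FaithfulSMul.eq_of_smul_eq_smul (α := Ω) fun z => ?_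
    rw [one_smul]
    exact (h ▸ Set.mem_univ z : z ∈ fixedPoints N Ω) ⟨n, hn⟩
  have := IsQuasiPreprimitive.isPretransitive_of_normal (G := G) (X := Ω) hfix
  obtain ⟨n, hn⟩ := MulAction.exists_smul_eq N x y
  exact ⟨n, n.2, hn⟩

/-- A point stabiliser is maximal. -/
theorem eq_top_of_stabilizer_le (h2 : IsMultiplyPretransitive G Ω 2) {x y : Ω} (hxy : x ≠ y)
    {K : Subgroup G} (hK : stabilizer G x ≤ K) {g : G} (hg : g ∈ K) (hgx : g • x ≠ x) : K = ⊤ := by
  have := isPrim h2
  have : Nontrivial Ω := ⟨⟨x, y, hxy⟩⟩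
  have hc := IsPreprimitive.isCoatom_stabilizer_of_isPreprimitive G x
  refine hc.2 K (lt_of_le_of_ne hK fun h => ?_)
  exact hgx (mem_stabilizer_iff.1 (h ▸ hg))

theorem card_dvd_of_trans [Finite G] (N : Subgroup G) (x : Ω)
    (h : ∀ y, ∃ n ∈ N, n • x = y) : Nat.card Ω ∣ Nat.card N := by
  have hor : orbit N x = Set.univ :=
    Set.eq_univ_of_forall fun y => by obtain ⟨n, hn, hy⟩ := h y; exact ⟨⟨n, hn⟩, hy⟩
  have h1 := index_stabilizer N x
  rw [hor, Set.ncard_univ] at h1
  rw [← h1]
  exact Subgroup.index_dvd_card _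

/-- A doubly transitive group of even degree with cyclic Sylow 2-subgroups has degree 2. -/
theorem card_eq_two_of_cyclic_sylow [Finite G] [Finite Ω] [FaithfulSMul G Ω]
    (h2 : IsMultiplyPretransitive G Ω 2) (hn : Even (Nat.card Ω)) (h1 : Nonempty Ω) (S : Sylow 2 G)
    (hS : IsCyclic (S : Subgroup G)) : Nat.card Ω = 2 := by
  classical
  have hpos : 0 < Nat.card Ω := Nat.card_pos
  obtain ⟨x⟩ := h1
  have := isTrans h2
  have hG2 : 2 ∣ Nat.card G := by
    refine hn.two_dvd.trans ?_
    have := card_dvd_of_trans (⊤ : Subgroup G) x fun y => by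
      obtain ⟨g, hg⟩ := MulAction.exists_smul_eq G x y
      exact ⟨g, trivial, hg⟩
    rwa [Subgroup.card_top] at this
  have : Fact (Nat.Prime 2) := ⟨Nat.prime_two⟩
  have hmin : (Nat.card G).minFac = 2 := (Nat.minFac_eq_two_iff _).2 hG2
  set f := MonoidHom.transferSylow S (IsCyclic.normalizer_le_centralizer hmin hS)
  have hc := MonoidHom.ker_transferSylow_isComplement' S
    (IsCyclic.normalizer_le_centralizer hmin hS)
  have hnd : ¬ 2 ∣ Nat.card f.ker :=
    MonoidHom.not_dvd_card_ker_transferSylow S (IsCyclic.normalizer_le_centralizer hmin hS)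
  have hker : f.ker = ⊥ := by
    by_contra h
    exact hnd (hn.two_dvd.trans (card_dvd_of_trans f.ker x (normal_trans h2 f.ker h x)))
  have htop : (S : Subgroup G) = ⊤ := by
    refine Subgroup.eq_top_of_card_eq _ ?_
    have := hc.card_mul_card
    rwa [hker, Subgroup.card_bot, one_mul] at this
  have hcyc : IsCyclic G := by
    have : IsCyclic (⊤ : Subgroup G) := htop ▸ hS
    exact isCyclic_of_surjective Subgroup.topEquiv Subgroup.topEquiv.surjective
  have hab : ∀ g h : G, g * h = h * g := fun g h =>
    have := hcyc.isMulCommutative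
    mul_comm' g h
  by_contra hne
  have h3 : 3 ≤ Nat.card Ω := by
    obtain ⟨k, hk⟩ := hn
    omega
  obtain ⟨b, hb⟩ : ∃ b, b ≠ x := by
    by_contra h
    push Not at h
    have : Subsingleton Ω := ⟨fun u v => by rw [h u, h v]⟩
    have := Finite.card_le_one_iff_subsingleton.2 this
    omega
  obtain ⟨c, hcx, hcb⟩ : ∃ c, c ≠ x ∧ c ≠ b := by
    by_contra h
    push Not at h
    have hsub : (Set.univ : Set Ω) ⊆ {x, b} := fun y _ => by
      by_cases hy : y = x
      · exact Or.inl hy
      · exact Or.inr (h y hy)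
    have := Set.ncard_le_ncard hsub (Set.toFinite _)
    rw [Set.ncard_univ, Set.ncard_pair hb.symm] at this
    omega
  obtain ⟨g, hgx, hgb⟩ := exists_map_pair h2 (a := x) (b := b) (c := x) (d := c) hb.symm hcx.symm
  have : g = 1 := FaithfulSMul.eq_of_smul_eq_smul (α := Ω) fun y => by
    obtain ⟨k, rfl⟩ := MulAction.exists_smul_eq G x y
    rw [one_smul, ← mul_smul, hab, mul_smul, hgx]
  rw [this, one_smul] at hgb
  exact hcb hgb.symm

/-- A cyclic group has only one involution. -/
theorem invol_unique {K : Subgroup G} [Finite K] [IsCyclic K] {z t : G} (hz : z ∈ K) (ht : t ∈ K)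
    (hz1 : z ≠ 1) (ht1 : t ≠ 1) (hz2 : z * z = 1) (ht2 : t * t = 1) : z = t := by
  classical
  have := Fintype.ofFinite K
  have hle := IsCyclic.card_pow_eq_one_le (α := K) (n := 2) two_pos
  by_contra hne
  have hsub : ({1, ⟨z, hz⟩, ⟨t, ht⟩} : Finset K) ⊆ Finset.univ.filter fun a => a ^ 2 = 1 := by
    intro a ha
    simp only [Finset.mem_insert, Finset.mem_singleton] at ha
    simp only [Finset.mem_filter, Finset.mem_univ, true_and]
    rcases ha with rfl | rfl | rfl
    · simp
    · exact Subtype.ext (by rw [Subgroup.coe_pow, pow_two]; exact hz2)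
    · exact Subtype.ext (by rw [Subgroup.coe_pow, pow_two]; exact ht2)
  have := (Finset.card_le_card hsub).trans hle
  rw [Finset.card_insert_of_notMem, Finset.card_insert_of_notMem, Finset.card_singleton] at this
  · omega
  · simp only [Finset.mem_singleton, Subtype.mk.injEq]; exact hne
  · simp only [Finset.mem_insert, Finset.mem_singleton, Subtype.ext_iff, Subgroup.coe_one]
    rintro (h | h)
    · exact hz1 h.symm
    · exact ht1 h.symm

/-- A finite `p`-subgroup of a Z-group is cyclic. -/
theorem isCyclic_of_le_zgroup {B K : Subgroup G} [IsZGroup B] (hKB : K ≤ B) {p : ℕ}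
    [Fact p.Prime] (hK : IsPGroup p K) : IsCyclic K := by
  have : IsZGroup K := IsZGroup.of_injective (Subgroup.inclusion_injective hKB)
  have htop : IsPGroup p (⊤ : Subgroup K) :=
    hK.of_injective (Subgroup.topEquiv (G := K)).toMonoidHom Subgroup.topEquiv.injective
  have := IsPGroup.isCyclic_of_isZGroup htop
  exact isCyclic_of_surjective Subgroup.topEquiv Subgroup.topEquiv.surjective

/-- Commuting involutions in a Z-group coincide. -/
theorem invol_unique_zgroup [Finite G] {B : Subgroup G} [IsZGroup B] {z t : G} (hz : z ∈ B)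
    (ht : t ∈ B) (hz1 : z ≠ 1) (ht1 : t ≠ 1) (hz2 : z * z = 1) (ht2 : t * t = 1)
    (hc : Commute z t) : z = t := by
  have : Fact (Nat.Prime 2) := ⟨Nat.prime_two⟩
  set K := Subgroup.closure ({z, t} : Set G)
  have hKB : K ≤ B := (Subgroup.closure_le _).2 (by
    rintro a (rfl | rfl)
    · exact hz
    · exact ht)
  have hK : IsPGroup 2 K := by
    intro a
    refine ⟨1, Subtype.ext ?_⟩
    have key : ∀ x ∈ K, x * x = 1 ∧ Commute x z ∧ Commute x t := by
      intro x hx
      induction hx using Subgroup.closure_induction with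
      | mem x hx =>
        rcases hx with rfl | rfl
        · exact ⟨hz2, Commute.refl _, hc⟩
        · exact ⟨ht2, hc.symm, Commute.refl _⟩
      | one => exact ⟨one_mul 1, Commute.one_left _, Commute.one_left _⟩
      | mul x y hxK hyK hx hy =>
        have hxy : Commute x y := by
          clear hx
          induction hxK using Subgroup.closure_induction with
          | mem u hu =>
            rcases hu with rfl | rfl
            · exact hy.2.1.symm
            · exact hy.2.2.symm
          | one => exact Commute.one_left _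
          | mul u v _ _ hu hv => exact hu.mul_left hv
          | inv u _ hu => exact hu.inv_left
        refine ⟨?_, hx.2.1.mul_left hy.2.1, hx.2.2.mul_left hy.2.2⟩
        rw [hxy.symm.mul_mul_mul_comm, hx.1, hy.1, mul_one]
      | inv x _ hx => exact ⟨by rw [← mul_inv_rev, hx.1, inv_one], hx.2.1.inv_left, hx.2.2.inv_left⟩
    rw [pow_one, Subgroup.coe_pow, pow_two, Subgroup.coe_one]
    exact (key _ a.2).1
  have := isCyclic_of_le_zgroup hKB hK
  exact invol_unique (K := K) (Subgroup.subset_closure (Or.inl rfl))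
    (Subgroup.subset_closure (Or.inr rfl))
    hz1 ht1 hz2 ht2

/-- An abelian Z-group is cyclic. -/
theorem isCyclic_of_comm {K : Type*} [Group K] [Finite K] [IsZGroup K]
    (h : ∀ a b : K, a * b = b * a) : IsCyclic K := by
  let _ : CommGroup K := { ‹Group K› with mul_comm := h }
  exact IsCyclic.iff_exponent_eq_card.2 (IsZGroup.exponent_eq_card K)

/-- In a cyclic group, subgroups of the same order coincide. -/
theorem eq_of_card_eq_of_le_cyclic {K X Y : Subgroup G} [Finite K] [IsCyclic K] (hX : X ≤ K)
    (hY : Y ≤ K) (h : Nat.card X = Nat.card Y) : X = Y := by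
  classical
  have := Fintype.ofFinite K
  have hfx : Finite X := Finite.of_injective _ (Subgroup.inclusion_injective hX)
  have hfy : Finite Y := Finite.of_injective _ (Subgroup.inclusion_injective hY)
  set d := Nat.card X with hd
  have hdpos : 0 < d := Nat.card_pos
  have hle := IsCyclic.card_pow_eq_one_le (α := K) (n := d) hdpos
  have hsub : ∀ (Z : Subgroup G) (hZ : Z ≤ K), Nat.card Z = d →
      (Set.range (Subgroup.inclusion hZ)) = ↑(Finset.univ.filter fun a : K => a ^ d = 1) := by
    intro Z hZ hcard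
    have hfin : Finite Z := Finite.of_injective _ (Subgroup.inclusion_injective hZ)
    refine Set.eq_of_subset_of_ncard_le ?_ ?_ (Set.toFinite _)
    · rintro _ ⟨z, rfl⟩
      simp only [Finset.coe_filter, Finset.mem_univ, true_and, Set.mem_setOf_eq]
      rw [← map_pow, ← hcard, pow_card_eq_one', map_one]
    · rw [Set.ncard_range_of_injective (Subgroup.inclusion_injective hZ), hcard,
        Set.ncard_coe_finset]
      exact hle
  have heq := (hsub X hX rfl).trans (hsub Y hY h.symm).symm
  refine Subgroup.ext fun g => ⟨fun hg => ?_, fun hg => ?_⟩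
  · have : Subgroup.inclusion hX ⟨g, hg⟩ ∈ Set.range (Subgroup.inclusion hY) := heq ▸ ⟨_, rfl⟩
    obtain ⟨y, hy⟩ := this
    have := congrArg Subtype.val hy
    simp only [Subgroup.coe_inclusion] at this
    exact this ▸ y.2
  · have : Subgroup.inclusion hY ⟨g, hg⟩ ∈ Set.range (Subgroup.inclusion hX) := heq.symm ▸ ⟨_, rfl⟩
    obtain ⟨y, hy⟩ := this
    have := congrArg Subtype.val hy
    simp only [Subgroup.coe_inclusion] at this
    exact this ▸ y.2

/-- A semiregular permutation of 2-power order with an odd number of cycles is odd. -/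
theorem sign_semiregular {α : Type*} [Fintype α] [DecidableEq α] (g : Equiv.Perm α) (k : ℕ)
    (hk : orderOf g = 2 ^ (k + 1)) (hfree : ∀ x, (g ^ 2 ^ k) x ≠ x)
    (hodd : Odd (Fintype.card α / 2 ^ (k + 1))) : Equiv.Perm.sign g = -1 := by
  have hlen : ∀ l ∈ g.cycleType, l = 2 ^ (k + 1) := by
    intro l hl
    obtain ⟨j, hj, rfl⟩ :=
      (Nat.dvd_prime_pow Nat.prime_two).1 (hk ▸ Equiv.Perm.dvd_of_mem_cycleType hl)
    rcases eq_or_lt_of_le hj with h | h
    · rw [h]
    exfalso
    rw [Equiv.Perm.cycleType_def, Multiset.mem_map] at hl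
    obtain ⟨c, hc, hcl⟩ := hl
    obtain ⟨hcyc, hcg⟩ := Equiv.Perm.mem_cycleFactorsFinset_iff.1 hc
    obtain ⟨x, hx⟩ := hcyc.nonempty_support
    have hpow : ∀ n : ℕ, (c ^ n) x = (g ^ n) x := by
      intro n
      induction n with
      | zero => rfl
      | succ n ih =>
        rw [pow_succ', pow_succ', Equiv.Perm.mul_apply, Equiv.Perm.mul_apply, ← ih]
        exact hcg _ (Equiv.Perm.pow_apply_mem_support.2 hx)
    have hc1 : c ^ (2 ^ k) = 1 := by
      rw [← orderOf_dvd_iff_pow_eq_one, hcyc.orderOf]
      simp only [Function.comp_apply] at hcl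
      rw [hcl]
      exact pow_dvd_pow 2 (by omega)
    have := hpow (2 ^ k)
    rw [hc1] at this
    exact hfree x this.symm
  have hrep : g.cycleType = Multiset.replicate g.cycleType.card (2 ^ (k + 1)) :=
    Multiset.eq_replicate_card.2 hlen
  have hsupp : g.support = Finset.univ := by
    refine Finset.eq_univ_iff_forall.2 fun x => Equiv.Perm.mem_support.2 fun h => hfree x ?_
    exact Equiv.Perm.pow_apply_eq_self_of_apply_eq_self h _
  have hsum : g.cycleType.card * 2 ^ (k + 1) = Fintype.card α := by
    have := g.sum_cycleType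
    rw [hrep, Multiset.sum_replicate, hsupp, smul_eq_mul, Finset.card_univ] at this
    exact this
  have hc : Odd g.cycleType.card := by
    rw [← hsum, Nat.mul_div_cancel _ (by positivity)] at hodd
    exact hodd
  rw [Equiv.Perm.sign_of_cycleType]
  refine Odd.neg_one_pow ?_
  have : Even g.cycleType.sum := by
    rw [hrep, Multiset.sum_replicate, smul_eq_mul]
    exact (Nat.even_mul.2 (Or.inr (Nat.even_pow.2 ⟨even_two, by omega⟩)))
  exact this.add_odd hc

end Cfsg.Agent.H36.CyZ
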