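import Cfsg.Agent.H36.CyZ.Local

/-!
The centraliser of an involution with two or more fixed points acts on exactly two points.
-/

set_option autoImplicit false
set_option linter.unusedSectionVars false

namespace Cfsg.Agent.H36.CyZ

open MulAction
open scoped Pointwise

universe u v

variable {G : Type u} {Ω : Type v} [Group G] [MulAction G Ω]

theorem mem_normalizer_invol {t g : G} (ht2 : t * t = 1) (ht1 : t ≠ 1) :
    g ∈ Subgroup.normalizer ((Subgroup.zpowers t : Subgroup G) : Set G) ↔ g * t = t * g := by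
  constructor
  · intro hg
    obtain ⟨k, hk⟩ := (Subgroup.mem_normalizer_iff.1 hg t).1 (Subgroup.mem_zpowers t)
    simp only at hk
    rcases Int.even_or_odd k with ⟨m, rfl⟩ | ⟨m, rfl⟩
    · exfalso
      rw [← two_mul, zpow_mul, zpow_two, ht2, one_zpow] at hk
      apply ht1
      have := hk.symm
      rwa [mul_inv_eq_one, mul_eq_left] at this
    · rw [zpow_add, zpow_mul, zpow_two, ht2, one_zpow, zpow_one, one_mul] at hk
      exact mul_inv_eq_iff_eq_mul.1 hk.symm
  · intro hc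
    refine Subgroup.mem_normalizer_iff.2 fun s => ⟨?_, ?_⟩
    · rintro ⟨k, rfl⟩
      refine ⟨k, ?_⟩
      simp only
      rw [← conj_zpow, mul_inv_eq_iff_eq_mul.2 hc]
    · rintro ⟨k, hk⟩
      refine ⟨k, ?_⟩
      simp only at hk ⊢
      have : g⁻¹ * t ^ k * g = t ^ k := by
        have := ((show Commute g t from hc).zpow_right k).eq
        rw [mul_assoc, ← this, inv_mul_cancel_left]
      rw [← this, hk]; group

/-- The situation to be refuted: an involution fixing at least four points. -/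
structure Bad (a b : Ω) (t : G) : Prop where
  hyp : Hyp G Ω
  ne : a ≠ b
  mem : t ∈ twoStab a b
  ne_one : t ≠ 1
  sq : t * t = 1
  four : 4 ≤ Nat.card (fixSub (Ω := Ω) (Subgroup.zpowers t))
  concl : Concl (imgHom (Ω := Ω) (Subgroup.zpowers t)).range (fixSub (Ω := Ω) (Subgroup.zpowers t))

variable [Finite G] [Finite Ω]

/-- The induced group satisfies the hypotheses. -/
theorem Hyp.img_hyp (h : Hyp G Ω) {a b : Ω} (hab : a ≠ b) {S : Subgroup G}
    (hS : S ≤ twoStab a b) (hSp : IsPGroup 2 S) (h4 : 4 ≤ Nat.card (fixSub (Ω := Ω) S)) :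
    Hyp (imgHom (Ω := Ω) S).range (fixSub (Ω := Ω) S) := by
  have : Fact (Nat.Prime 2) := ⟨Nat.prime_two⟩
  refine ⟨inferInstance, h.img_two, ?_, h4, h.img_zgroup, ?_⟩
  · rw [Hyp.card_fixSub]; exact h.even_fixed hSp
  obtain ⟨B2, hB, hBc⟩ := h.exists_full hab
  obtain ⟨P, a₀, j, T, -, ha, -, -, hfree, -, hmem, hT⟩ := h.local_sylow hab hS hB hBc
  set f := (imgHom (Ω := Ω) S).rangeRestrict
  have hf : Function.Surjective f := (imgHom (Ω := Ω) S).rangeRestrict_surjective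
  refine ⟨T.mapSurjective hf, f ⟨a₀ ^ 2 ^ j, hmem⟩, ⟨a, fun s hs => (hS hs).1⟩, ?_, ?_, ?_⟩
  · refine ⟨⟨a₀ ^ 2 ^ j, hmem⟩, (hT _).2 ⟨1, ?_⟩, rfl⟩
    simp only [zpow_one, inv_mul_cancel]
    exact one_mem _
  · intro y k hk
    rw [← map_zpow] at hk ⊢
    have hk' : (a₀ ^ 2 ^ j) ^ k • (y : Ω) = y := congrArg Subtype.val hk
    rw [← zpow_natCast, ← zpow_mul] at hk'
    have h1 := hfree _ _ hk'
    rw [zpow_mul, zpow_natCast] at h1
    have : (⟨a₀ ^ 2 ^ j, hmem⟩ : Subgroup.normalizer (S : Set G)) ^ k = 1 :=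
      Subtype.ext (by rw [Subgroup.coe_zpow]; exact h1)
    rw [this, map_one]
  · rintro _ ⟨g, hg, rfl⟩
    obtain ⟨k, hk⟩ := (hT g).1 hg
    refine ⟨k, ?_⟩
    rw [← map_zpow]
    apply Subtype.ext
    change (g : G) • a = (a₀ ^ 2 ^ j) ^ k • a
    have : (((a₀ ^ 2 ^ j) ^ k)⁻¹ * (g : G)) • a = a := (hB hk).1
    rw [mul_smul, inv_smul_eq_iff] at this
    exact this

namespace Bad

variable {a b : Ω} {t : G}

theorem le_two (B : Bad a b t) : Subgroup.zpowers t ≤ twoStab a b := Subgroup.zpowers_le.2 B.mem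

theorem isPGroup (B : Bad a b t) : IsPGroup 2 (Subgroup.zpowers t) := by
  have : Fact (Nat.Prime 2) := ⟨Nat.prime_two⟩
  refine IsPGroup.of_card (n := 1) ?_
  rw [Nat.card_zpowers, pow_one]
  exact orderOf_eq_prime (by rw [pow_two]; exact B.sq) B.ne_one

theorem img (B : Bad a b t) :
    Hyp (imgHom (Ω := Ω) (Subgroup.zpowers t)).range (fixSub (Ω := Ω) (Subgroup.zpowers t)) :=
  B.hyp.img_hyp B.ne B.le_two B.isPGroup B.four

theorem mem_N (B : Bad a b t) {g : G} :
    g ∈ Subgroup.normalizer ((Subgroup.zpowers t : Subgroup G) : Set G) ↔ g * t = t * g :=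
  mem_normalizer_invol B.sq B.ne_one

theorem two_mem_N (B : Bad a b t) {g : G} (hg : g ∈ twoStab a b) :
    g ∈ Subgroup.normalizer ((Subgroup.zpowers t : Subgroup G) : Set G) :=
  B.mem_N.2 (B.hyp.twoStab_comm B.ne hg B.mem)

/-- `a` as a fixed point. -/
def pa (B : Bad a b t) : fixSub (Ω := Ω) (Subgroup.zpowers t) :=
  ⟨a, fun _ hs => (B.le_two hs).1⟩

/-- `b` as a fixed point. -/
def pb (B : Bad a b t) : fixSub (Ω := Ω) (Subgroup.zpowers t) :=
  ⟨b, fun _ hs => (B.le_two hs).2⟩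

theorem pab (B : Bad a b t) : B.pa ≠ B.pb := fun e => B.ne (congrArg Subtype.val e)

theorem mem_F (B : Bad a b t) {x : Ω} :
    x ∈ fixSub (Ω := Ω) (Subgroup.zpowers t) ↔ t • x = x := by
  refine ⟨fun h => h t (Subgroup.mem_zpowers t), fun h s hs => ?_⟩
  obtain ⟨k, rfl⟩ := hs
  exact (mem_stabilizer_iff.1 (zpow_mem (show t ∈ stabilizer G x from h) k))

/-- In a two point stabiliser, fixing a third common fixed point means fixing all of them. -/
theorem semireg (B : Bad a b t) {k : G} (hk : k ∈ twoStab a b) {c : Ω} (hc : t • c = c)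
    (hca : c ≠ a) (hcb : c ≠ b) (hkc : k • c = c) {x : Ω} (hx : t • x = x) : k • x = x := by
  set f := (imgHom (Ω := Ω) (Subgroup.zpowers t)).rangeRestrict
  have h1 := B.concl.sharp B.pa B.pb ⟨c, B.mem_F.2 hc⟩ (f ⟨k, B.two_mem_N hk⟩) B.pab
    (fun e => hca (congrArg Subtype.val e).symm) (fun e => hcb (congrArg Subtype.val e).symm)
    (Subtype.ext hk.1) (Subtype.ext hk.2) (Subtype.ext hkc)
  have h2 : f ⟨k, B.two_mem_N hk⟩ • (⟨x, B.mem_F.2 hx⟩ : fixSub (Ω := Ω) (Subgroup.zpowers t)) =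
      ⟨x, B.mem_F.2 hx⟩ := by rw [h1, one_smul]
  exact congrArg Subtype.val h2

theorem exists_third (B : Bad a b t) : ∃ c, t • c = c ∧ c ≠ a ∧ c ≠ b := by
  classical
  by_contra hno
  push Not at hno
  have := Fintype.ofFinite (fixSub (Ω := Ω) (Subgroup.zpowers t))
  have hsub : (Finset.univ : Finset (fixSub (Ω := Ω) (Subgroup.zpowers t))) ⊆ {B.pa, B.pb} := by
    intro x _
    simp only [Finset.mem_insert, Finset.mem_singleton]
    by_cases hxa : (x : Ω) = a
    · exact Or.inl (Subtype.ext hxa)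
    · exact Or.inr (Subtype.ext (hno x (B.mem_F.1 x.2) hxa))
  have := (Finset.card_le_card hsub).trans Finset.card_le_two
  rw [Finset.card_univ, ← Nat.card_eq_fintype_card] at this
  have := B.four
  omega

theorem exists_pre (B : Bad a b t)
    {g : (imgHom (Ω := Ω) (Subgroup.zpowers t)).range} (hg : g ∈ twoStab B.pa B.pb) :
    ∃ k, ∃ hk : k ∈ twoStab a b,
      (imgHom (Ω := Ω) (Subgroup.zpowers t)).rangeRestrict ⟨k, B.two_mem_N hk⟩ = g := by
  obtain ⟨⟨k, hk⟩, rfl⟩ := (imgHom (Ω := Ω) (Subgroup.zpowers t)).rangeRestrict_surjective g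
  exact ⟨k, ⟨congrArg Subtype.val hg.1, congrArg Subtype.val hg.2⟩, rfl⟩

/-- The two point stabiliser is transitive on the other common fixed points. -/
theorem trans_third (B : Bad a b t) {c d : Ω} (hc : t • c = c) (hca : c ≠ a) (hcb : c ≠ b)
    (hd : t • d = d) (hda : d ≠ a) (hdb : d ≠ b) : ∃ k ∈ twoStab (G := G) a b, k • c = d := by
  classical
  set F := fixSub (Ω := Ω) (Subgroup.zpowers t)
  set Q := (imgHom (Ω := Ω) (Subgroup.zpowers t)).range
  have := Fintype.ofFinite F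
  have := Fintype.ofFinite Q
  let c' : F := ⟨c, B.mem_F.2 hc⟩
  have hca' : c' ≠ B.pa := fun e => hca (congrArg Subtype.val e)
  have hcb' : c' ≠ B.pb := fun e => hcb (congrArg Subtype.val e)
  let φ : twoStab (G := Q) B.pa B.pb → {x : F // x ≠ B.pa ∧ x ≠ B.pb} := fun g =>
    ⟨(g : Q) • c', fun e => hca' (smul_left_cancel (g : Q) (e.trans g.2.1.symm)),
      fun e => hcb' (smul_left_cancel (g : Q) (e.trans g.2.2.symm))⟩
  have hφ : Function.Bijective φ := by
    refine (Nat.bijective_iff_injective_and_card φ).2 ⟨fun g g' e => ?_, ?_⟩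
    · have e' : (g : Q) • c' = (g' : Q) • c' := congrArg Subtype.val e
      have h1 := B.concl.sharp B.pa B.pb c' ((g' : Q)⁻¹ * g) B.pab hca'.symm hcb'.symm
        (mul_mem (inv_mem g'.2) g.2).1 (mul_mem (inv_mem g'.2) g.2).2
        (by rw [mul_smul, e', inv_smul_smul])
      rw [inv_mul_eq_one] at h1
      exact Subtype.ext h1.symm
    · have h1 : Nat.card (twoStab (G := Q) B.pa B.pb) + 2 = Nat.card F :=
        B.concl.card_two B.pa B.pb B.pab
      have h4 : 4 ≤ Nat.card F := B.four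
      rw [Nat.card_eq_fintype_card (α := {x : F // x ≠ B.pa ∧ x ≠ B.pb}),
        Fintype.card_subtype]
      have h2 : (Finset.univ.filter fun x : F => x ≠ B.pa ∧ x ≠ B.pb) =
          (Finset.univ : Finset F) \ {B.pa, B.pb} := by ext x; simp
      rw [h2, Finset.card_univ_sdiff, Finset.card_pair B.pab, ← Nat.card_eq_fintype_card]
      omega
  obtain ⟨g, hg⟩ := hφ.2 ⟨⟨d, B.mem_F.2 hd⟩, fun e => hda (congrArg Subtype.val e),
    fun e => hdb (congrArg Subtype.val e)⟩
  obtain ⟨k, hk, hkg⟩ := B.exists_pre g.2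
  refine ⟨k, hk, ?_⟩
  have h3 : (g : Q) • c' = ⟨d, B.mem_F.2 hd⟩ := congrArg Subtype.val hg
  rw [← hkg] at h3
  exact congrArg Subtype.val h3

/-- An element of the two point stabiliser inducing an involution on the fixed points. -/
theorem exists_invol (B : Bad a b t) : ∃ k ∈ twoStab (G := G) a b,
    ∀ x : Ω, t • x = x → x ≠ a → x ≠ b → k • x ≠ x ∧ k • k • x = x := by
  classical
  have : Fact (Nat.Prime 2) := ⟨Nat.prime_two⟩
  obtain ⟨g, hg⟩ := exists_prime_orderOf_dvd_card' (G := twoStab B.pa B.pb) 2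
    (B.img.even_twoStab B.pab)
  obtain ⟨k, hk, hkg⟩ := B.exists_pre g.2
  refine ⟨k, hk, fun x hx hxa hxb => ⟨fun e => ?_, ?_⟩⟩
  · have h1 : (g : (imgHom (Ω := Ω) (Subgroup.zpowers t)).range) = 1 := by
      rw [← hkg]
      refine Subtype.ext (Equiv.ext fun y => Subtype.ext ?_)
      exact B.semireg hk hx hxa hxb e (B.mem_F.1 y.2)
    have h2 : g = 1 := Subtype.ext h1
    rw [h2, orderOf_one] at hg
    omega
  · have h1 : (g : (imgHom (Ω := Ω) (Subgroup.zpowers t)).range) * g = 1 := by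
      have := pow_orderOf_eq_one g
      rw [hg, pow_two] at this
      exact congrArg Subtype.val this
    have h2 := congrArg (fun q : (imgHom (Ω := Ω) (Subgroup.zpowers t)).range =>
      q • (⟨x, B.mem_F.2 hx⟩ : fixSub (Ω := Ω) (Subgroup.zpowers t))) h1
    simp only [one_smul, mul_smul] at h2
    rw [← hkg] at h2
    exact congrArg Subtype.val h2

theorem two_trans (B : Bad a b t) {c d c' d' : Ω} (hcd : c ≠ d) (hcd' : c' ≠ d') (hc : t • c = c)
    (hd : t • d = d) (hc' : t • c' = c') (hd' : t • d' = d') :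
    ∃ g : G, g * t = t * g ∧ g • c = c' ∧ g • d = d' := by
  obtain ⟨g, hg, h1, h2⟩ := B.hyp.exists_normalizer hcd
    (Subgroup.zpowers_le.2 (show t ∈ twoStab c d from ⟨hc, hd⟩)) hcd'
    (Subgroup.zpowers_le.2 (show t ∈ twoStab c' d' from ⟨hc', hd'⟩))
  exact ⟨g, B.mem_N.1 hg, h1, h2⟩

/-- An element swapping `a`, `b` conjugate to an element of the two point stabiliser. -/
theorem exists_swap (B : Bad a b t) : ∃ s : G, s * t = t * s ∧ s • a = b ∧ s • b = a ∧
    (∃ x : Ω, t • x = x ∧ s • x = x) ∧ ∃ g : G, g * t = t * g ∧ ∃ k ∈ twoStab (G := G) a b, s = g * k * g⁻¹ := by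
  obtain ⟨k, hk, hkx⟩ := B.exists_invol
  obtain ⟨c, hc, hca, hcb⟩ := B.exists_third
  obtain ⟨h1, h2⟩ := hkx c hc hca hcb
  have hkt : k * t = t * k := B.hyp.twoStab_comm B.ne hk B.mem
  have hd : t • k • c = k • c := by rw [← mul_smul, ← hkt, mul_smul, hc]
  obtain ⟨g, hgt, hgc, hgd⟩ := B.two_trans (Ne.symm h1) B.ne hc hd B.mem.1 B.mem.2
  refine ⟨g * k * g⁻¹, ?_, ?_, ?_, ⟨g • a, ?_, ?_⟩, g, hgt, k, hk, rfl⟩
  · exact B.mem_N.1 (mul_mem (mul_mem (B.mem_N.2 hgt) (B.mem_N.2 hkt)) (inv_mem (B.mem_N.2 hgt)))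
  · rw [← hgc, mul_smul, mul_smul, inv_smul_smul, hgd]
  · rw [← hgd, mul_smul, mul_smul, inv_smul_smul, h2, hgc]
  · rw [← mul_smul, ← hgt, mul_smul, B.mem.1]
  · rw [mul_smul, mul_smul, inv_smul_smul, hk.1]

/-- A normal subgroup of the centraliser containing the two point stabiliser is everything. -/
theorem gen (B : Bad a b t) (K : G → Prop) (hKm : ∀ g h, g * t = t * g → h * t = t * h → K g → K h → K (g * h))
    (hKi : ∀ g, g * t = t * g → K g → K g⁻¹)
    (hKc : ∀ g h, g * t = t * g → h * t = t * h → K h → K (g * h * g⁻¹))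
    (hKH : ∀ k ∈ twoStab a b, K k) : ∀ g, g * t = t * g → K g := by
  classical
  set N := Subgroup.normalizer ((Subgroup.zpowers t : Subgroup G) : Set G) with hN
  let KK : Subgroup N :=
    { carrier := {g | K (g : G)}
      one_mem' := hKH 1 (one_mem _)
      mul_mem' := fun {g h} hg hh => hKm _ _ (B.mem_N.1 g.2) (B.mem_N.1 h.2) hg hh
      inv_mem' := fun {g} hg => hKi _ (B.mem_N.1 g.2) hg }
  obtain ⟨k, hk, hkx⟩ := B.exists_invol
  have hU : ∀ w ∈ UU (G := G) a, w * t = t * w → K w := by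
    let U1 : Subgroup G := UU a ⊓ N
    let φ : U1 → U1 := fun w => ⟨k * w * k⁻¹ * (w : G)⁻¹,
      Subgroup.mem_inf.2 ⟨mul_mem (conj_mem_UU hk.1 (Subgroup.mem_inf.1 w.2).1)
        (inv_mem (Subgroup.mem_inf.1 w.2).1),
      mul_mem (mul_mem (mul_mem (B.two_mem_N hk) (Subgroup.mem_inf.1 w.2).2)
        (inv_mem (B.two_mem_N hk))) (inv_mem (Subgroup.mem_inf.1 w.2).2)⟩⟩
    have hinj : Function.Injective φ := by
      intro v w e
      have e' : k * v * k⁻¹ * (v : G)⁻¹ = k * w * k⁻¹ * (w : G)⁻¹ := congrArg Subtype.val e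
      have := B.hyp.cyclic_UU a
      obtain ⟨hw1, hw2⟩ := Subgroup.mem_inf.1 w.2
      obtain ⟨hv1, hv2⟩ := Subgroup.mem_inf.1 v.2
      have hcomm : ∀ x ∈ UU (G := G) a, ∀ y ∈ UU (G := G) a, x * y = y * x := fun x hx y hy =>
        have := IsCyclic.isMulCommutative (α := UU (G := G) a)
        congrArg Subtype.val (mul_comm' (⟨x, hx⟩ : UU (G := G) a) ⟨y, hy⟩)
      set x := (w : G)⁻¹ * v with hx
      have hxU : x ∈ UU a := mul_mem (inv_mem hw1) hv1
      have hkx' : k * x = x * k := by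
        have h1 : k * x * k⁻¹ = (k * w * k⁻¹)⁻¹ * (k * v * k⁻¹) := by rw [hx]; group
        have h2 : k * v * k⁻¹ = (k * w * k⁻¹ * (w : G)⁻¹) * v := by rw [← e']; group
        rw [h2, mul_assoc (k * w * k⁻¹), ← hx, inv_mul_cancel_left] at h1
        exact mul_inv_eq_iff_eq_mul.1 h1
      have hxt : x * t = t * x := B.mem_N.1 (mul_mem (inv_mem hw2) hv2)
      have hfix : k • x • b = x • b := (B.hyp.fixed_iff_commute B.ne hk hxU).2 hkx'
      have htx : t • x • b = x • b := by rw [← mul_smul, ← hxt, mul_smul, B.mem.2]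
      by_contra hne
      have hxb : x • b ≠ b := fun h => hne (Subtype.ext (by
        have := B.hyp.UU_free B.ne.symm hxU h
        rw [hx, inv_mul_eq_one] at this
        exact this.symm))
      have hxa : x • b ≠ a := fun h => B.ne (smul_left_cancel x ((UU_le a hxU).trans h.symm))
      exact (hkx _ htx hxa hxb).1 hfix
    intro w hw hwt
    obtain ⟨v, hv⟩ := Finite.injective_iff_surjective.1 hinj ⟨w, Subgroup.mem_inf.2 ⟨hw, B.mem_N.2 hwt⟩⟩
    have hv' : k * v * k⁻¹ * (v : G)⁻¹ = w := congrArg Subtype.val hv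
    have hvt : (v : G) * t = t * v := B.mem_N.1 (Subgroup.mem_inf.1 v.2).2
    have hkt : k * t = t * k := B.mem_N.1 (B.two_mem_N hk)
    rw [← hv', mul_assoc, mul_assoc]
    refine hKm _ _ hkt ?_ (hKH k hk) ?_
    · rw [← mul_assoc]
      exact B.mem_N.1 (mul_mem (mul_mem (Subgroup.mem_inf.1 v.2).2 (inv_mem (B.two_mem_N hk)))
        (inv_mem (Subgroup.mem_inf.1 v.2).2))
    · rw [← mul_assoc]
      exact hKc _ _ hvt (B.mem_N.1 (inv_mem (B.two_mem_N hk))) (hKH _ (inv_mem hk))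
  have hstab : ∀ g, g * t = t * g → g • a = a → K g := by
    intro g hgt hga
    obtain ⟨w, hw, l, hl, rfl⟩ := B.hyp.stab_decomp B.ne hga
    have hwN : w ∈ N := by
      have := mul_mem (B.mem_N.2 hgt) (inv_mem (B.two_mem_N hl))
      simpa using this
    exact hKm _ _ (B.mem_N.1 hwN) (B.hyp.twoStab_comm B.ne hl B.mem) (hU w hw (B.mem_N.1 hwN))
      (hKH l hl)
  obtain ⟨s, hst, hsa, -, -, g₀, hg₀, k₀, hk₀, hs₀⟩ := B.exists_swap
  have hKs : K s := hs₀ ▸ hKc _ _ hg₀ (B.hyp.twoStab_comm B.ne hk₀ B.mem) (hKH _ hk₀)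
  set f := (imgHom (Ω := Ω) (Subgroup.zpowers t)).rangeRestrict
  have htop : KK.map f = ⊤ := by
    refine eq_top_of_stabilizer_le B.img.two B.pab (g := f ⟨s, B.mem_N.2 hst⟩) ?_ ?_ ?_
    · intro q hq
      obtain ⟨⟨g, hg⟩, rfl⟩ := (imgHom (Ω := Ω) (Subgroup.zpowers t)).rangeRestrict_surjective q
      exact ⟨⟨g, hg⟩, hstab g (B.mem_N.1 hg) (congrArg Subtype.val hq), rfl⟩
    · exact ⟨⟨s, B.mem_N.2 hst⟩, hKs, rfl⟩
    · exact fun e => B.ne (((congrArg Subtype.val e : s • a = a).symm.trans hsa))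
  intro g hgt
  obtain ⟨⟨h', hh'⟩, hK', e⟩ : f ⟨g, B.mem_N.2 hgt⟩ ∈ KK.map f := htop ▸ Subgroup.mem_top _
  have h1 : (h'⁻¹ * g) • a = a := by
    have := congrArg (fun q : (imgHom (Ω := Ω) (Subgroup.zpowers t)).range => q • B.pa) e
    have e' : h' • a = g • a := congrArg Subtype.val this
    rw [mul_smul, ← e', inv_smul_smul]
  have h2 := hstab _ (B.mem_N.1 (mul_mem (inv_mem hh') (B.mem_N.2 hgt))) h1
  have := hKm _ _ (B.mem_N.1 hh') (B.mem_N.1 (mul_mem (inv_mem hh') (B.mem_N.2 hgt))) hK' h2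
  rwa [mul_inv_cancel_left] at this

/-- Elements fixing all the common fixed points are central in the centraliser. -/
theorem triv_central (B : Bad a b t) {w : G} (hw : ∀ x : Ω, t • x = x → w • x = x) {g : G}
    (hg : g * t = t * g) : g * w = w * g := by
  have hwH : ∀ v : G, (∀ x : Ω, t • x = x → v • x = x) → v ∈ twoStab a b := fun v hv =>
    ⟨hv a B.mem.1, hv b B.mem.2⟩
  refine B.gen (fun g => ∀ v : G, (∀ x : Ω, t • x = x → v • x = x) → g * v = v * g) ?_ ?_ ?_
    (fun k hk v hv => B.hyp.twoStab_comm B.ne hk (hwH v hv)) g hg w hw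
  · intro g h _ _ h1 h2 v hv
    exact ((show Commute g v from h1 v hv).mul_left (show Commute h v from h2 v hv)).eq
  · intro g _ h1 v hv
    exact (show Commute g v from h1 v hv).inv_left.eq
  · intro g h hgt _ h1 v hv
    have hv' : ∀ x : Ω, t • x = x → (g⁻¹ * v * g) • x = x := by
      intro x hx
      have hgx : t • g • x = g • x := by rw [← mul_smul, ← hgt, mul_smul, hx]
      rw [mul_smul, mul_smul, hv _ hgx, inv_smul_smul]
    have := h1 _ hv'
    calc g * h * g⁻¹ * v = g * (h * (g⁻¹ * v * g)) * g⁻¹ := by group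
      _ = g * ((g⁻¹ * v * g) * h) * g⁻¹ := by rw [this]
      _ = v * (g * h * g⁻¹) := by group

end Bad

end Cfsg.Agent.H36.CyZ
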