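import Cfsg.Agent.H36.CyZ.Parity

/-!
An involution of a two point stabiliser fixes exactly two points.
-/

set_option autoImplicit false
set_option linter.unusedSectionVars false

namespace Cfsg.Agent.H36.CyZ

open MulAction
open scoped Pointwise

universe u v

variable {G : Type u} {Ω : Type v} [Group G] [MulAction G Ω] [Finite G] [Finite Ω]

namespace Bad

variable {a b : Ω} {t : G}

local notation "𝔽" => fixSub (Ω := Ω) (Subgroup.zpowers t)
local notation "𝔑" => Subgroup.normalizer ((Subgroup.zpowers t : Subgroup G) : Set G)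

theorem fix_conj (B : Bad a b t) (g : G) : (g * t * g⁻¹) • g • a = g • a := by
  rw [mul_smul, mul_smul, inv_smul_smul, show t • a = a from B.mem.1]

/-- An involution commuting with `t` and fixing one of its fixed points equals `t`. -/
theorem eq_of_fix (B : Bad a b t) {z : G} (hz1 : z ≠ 1) (hz2 : z * z = 1) (hc : z * t = t * z)
    {x : Ω} (htx : t • x = x) (hzx : z • x = x) : z = t := by
  have := B.hyp.zgroup x
  exact invol_unique_zgroup (B := stabilizer G x) hzx htx hz1 B.ne_one hz2 B.sq hc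

/-- A conjugate of `t` swapping `a` and `b`. -/
theorem exists_conj_swap (B : Bad a b t) : ∃ g z : G, z = g * t * g⁻¹ ∧ z * t = t * z ∧
    z • a = b ∧ z • b = a ∧ ∀ x : Ω, t • x = x → z • x ≠ x := by
  obtain ⟨c, hc⟩ : ∃ c : Ω, t • c ≠ c := by
    by_contra h
    push Not at h
    have := B.hyp.faithful
    exact B.ne_one (FaithfulSMul.eq_of_smul_eq_smul (α := Ω) fun x => by rw [h x, one_smul])
  obtain ⟨g, hga, hgb⟩ := exists_map_pair B.hyp.two (Ne.symm hc) B.ne
  have htt : t • t • c = c := by rw [← mul_smul, B.sq, one_smul]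
  set z := g * t * g⁻¹ with hz
  have hza : z • a = b := by rw [hz, ← hga, mul_smul, mul_smul, inv_smul_smul, hgb]
  have hzb : z • b = a := by rw [hz, ← hgb, mul_smul, mul_smul, inv_smul_smul, htt, hga]
  have hz1 : z ≠ 1 := fun e => B.ne (by rw [← hza, e, one_smul])
  have hz2 : z * z = 1 := by
    rw [hz, show g * t * g⁻¹ * (g * t * g⁻¹) = g * (t * t) * g⁻¹ by group, B.sq]; group
  have hzinv : z⁻¹ = z := inv_eq_of_mul_eq_one_right hz2
  have hw : z * t * z⁻¹ ∈ twoStab a b := by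
    refine mem_twoStab.2 ⟨?_, ?_⟩
    · rw [hzinv, mul_smul, mul_smul, hza, show t • b = b from B.mem.2, hzb]
    · rw [hzinv, mul_smul, mul_smul, hzb, show t • a = a from B.mem.1, hza]
  have hw1 : z * t * z⁻¹ ≠ 1 := fun e => B.ne_one (by
    rw [mul_inv_eq_one, mul_eq_left] at e; exact e)
  have hw2 : z * t * z⁻¹ * (z * t * z⁻¹) = 1 := by
    rw [show z * t * z⁻¹ * (z * t * z⁻¹) = z * (t * t) * z⁻¹ by group, B.sq]; group
  have := B.hyp.cyclic_twoStab B.ne
  have heq := invol_unique hw B.mem hw1 B.ne_one hw2 B.sq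
  have hzt : z * t = t * z := mul_inv_eq_iff_eq_mul.1 heq
  refine ⟨g, z, rfl, hzt, hza, hzb, fun x hx hzx => ?_⟩
  have := B.eq_of_fix hz1 hz2 hzt hx hzx
  exact B.ne (by rw [← hza, this]; exact (B.mem.1).symm)

/-- Swapping elements without fixed points are conjugate on the fixed point set. -/
theorem fused (B : Bad a b t) {s₁ s₂ : G} (h1 : s₁ * t = t * s₁) (h2 : s₂ * t = t * s₂)
    (s1a : s₁ • a = b) (s1b : s₁ • b = a) (s2a : s₂ • a = b) (s2b : s₂ • b = a)
    (f1 : ∀ x : Ω, t • x = x → s₁ • x ≠ x) (f2 : ∀ x : Ω, t • x = x → s₂ • x ≠ x) :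
    ∃ k ∈ twoStab (G := G) a b, ∀ x : Ω, t • x = x → (k * s₁ * k⁻¹) • x = s₂ • x := by
  classical
  obtain ⟨s₀, h0, s0a, s0b, ⟨x₀, hx₀, hs₀⟩, -⟩ := B.exists_swap
  let Q := (imgHom (Ω := Ω) (Subgroup.zpowers t)).range
  let f : 𝔑 →* Q := (imgHom (Ω := Ω) (Subgroup.zpowers t)).rangeRestrict
  have sq : ∀ q : Q, q • B.pa = B.pb → q • B.pb = B.pa → q * q = 1 := fun q qa qb =>
    B.concl.swap B.pa B.pb q B.pab qa qb
  set q₁ := f ⟨s₁, B.mem_N.2 h1⟩ with hq1
  set q₂ := f ⟨s₂, B.mem_N.2 h2⟩ with hq2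
  set q₀ := f ⟨s₀, B.mem_N.2 h0⟩ with hq0
  have q1a : q₁ • B.pa = B.pb := Subtype.ext s1a
  have q1b : q₁ • B.pb = B.pa := Subtype.ext s1b
  have q1q := sq q₁ q1a q1b
  have inA : ∀ q : Q, q • B.pa = B.pb → q • B.pb = B.pa → q₁ * q ∈ twoStab B.pa B.pb := by
    intro q qa qb
    exact mem_twoStab.2 ⟨by rw [mul_smul, qa, q1b], by rw [mul_smul, qb, q1a]⟩
  have := B.img.cyclic_twoStab B.pab
  obtain ⟨⟨γ, hγ⟩, hgen⟩ := IsCyclic.exists_generator (α := twoStab (G := Q) B.pa B.pb)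
  have hlog : ∀ q : Q, q • B.pa = B.pb → q • B.pb = B.pa → ∃ l : ℤ, q = q₁ * γ ^ l := by
    intro q qa qb
    obtain ⟨l, hl⟩ := hgen ⟨q₁ * q, inA q qa qb⟩
    refine ⟨l, ?_⟩
    have hl' : γ ^ l = q₁ * q := congrArg Subtype.val hl
    rw [hl', ← mul_assoc, q1q, one_mul]
  have hinvert : ∀ l : ℤ, q₁ * γ ^ l * q₁ = γ ^ (-l) := by
    intro l
    have hm := zpow_mem hγ l
    have e1 : γ ^ l • B.pa = B.pa := hm.1
    have e2 : γ ^ l • B.pb = B.pb := hm.2
    have := sq (q₁ * γ ^ l) (by rw [mul_smul, e1, q1a]) (by rw [mul_smul, e2, q1b])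
    rw [zpow_neg]
    refine eq_inv_of_mul_eq_one_left ?_
    simpa only [mul_assoc] using this
  -- conjugating by a power of `γ`
  have hconj : ∀ i l : ℤ, γ ^ i * (q₁ * γ ^ l) * (γ ^ i)⁻¹ = q₁ * γ ^ (l - 2 * i) := by
    intro i l
    have h := hinvert i
    have hh : γ ^ i * q₁ = q₁ * γ ^ (-i) := by
      rw [← h]
      calc γ ^ i * q₁ = (q₁ * q₁) * (γ ^ i * q₁) := by rw [q1q, one_mul]
        _ = _ := by simp only [mul_assoc]
    rw [← mul_assoc, hh, mul_assoc, mul_assoc, ← zpow_neg, ← zpow_add, ← zpow_add]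
    congr 2
    ring
  obtain ⟨l₂, hl₂⟩ := hlog q₂ (Subtype.ext s2a) (Subtype.ext s2b)
  obtain ⟨l₀, hl₀⟩ := hlog q₀ (Subtype.ext s0a) (Subtype.ext s0b)
  have hfix0 : q₀ • (⟨x₀, B.mem_F.2 hx₀⟩ : 𝔽) = ⟨x₀, B.mem_F.2 hx₀⟩ := Subtype.ext hs₀
  have hmove : ∀ q : Q, (∀ x : 𝔽, q • x ≠ x) → ∀ g : Q, ∀ x : 𝔽, (g * q * g⁻¹) • x ≠ x := by
    intro q hq g x e
    apply hq (g⁻¹ • x)
    rw [mul_smul, mul_smul] at e
    exact smul_left_cancel g (e.trans (smul_inv_smul g x).symm)
  have hf1 : ∀ x : 𝔽, q₁ • x ≠ x := fun x e => f1 x (B.mem_F.1 x.2) (congrArg Subtype.val e)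
  have hf2 : ∀ x : 𝔽, q₂ • x ≠ x := fun x e => f2 x (B.mem_F.1 x.2) (congrArg Subtype.val e)
  rcases Int.even_or_odd l₂ with ⟨i, hi⟩ | ho
  · have hq : γ ^ (-i) * (q₁ * γ ^ (0 : ℤ)) * (γ ^ (-i))⁻¹ = q₂ := by
      rw [hconj, hl₂, hi]; congr 2; ring
    rw [zpow_zero, mul_one] at hq
    obtain ⟨k, hk, hkq⟩ := B.exists_pre (zpow_mem hγ (-i))
    refine ⟨k, hk, fun x hx => ?_⟩
    have : (f (⟨k, B.two_mem_N hk⟩ * ⟨s₁, B.mem_N.2 h1⟩ * ⟨k, B.two_mem_N hk⟩⁻¹)) •
        (⟨x, B.mem_F.2 hx⟩ : 𝔽) = q₂ • ⟨x, B.mem_F.2 hx⟩ := by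
      rw [map_mul, map_mul, map_inv, ← hq1, hkq, hq]
    exact congrArg Subtype.val this
  · exfalso
    rcases Int.even_or_odd l₀ with ⟨i, hi⟩ | ho'
    · have hq : γ ^ (-i) * (q₁ * γ ^ (0 : ℤ)) * (γ ^ (-i))⁻¹ = q₀ := by
        rw [hconj, hl₀, hi]; congr 2; ring
      rw [zpow_zero, mul_one] at hq
      have := hmove q₁ hf1 (γ ^ (-i)) ⟨x₀, B.mem_F.2 hx₀⟩
      rw [hq] at this
      exact this hfix0
    · obtain ⟨i, hi⟩ : ∃ i, l₂ - l₀ = i + i := by
        obtain ⟨u, hu⟩ := ho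
        obtain ⟨w, hw⟩ := ho'
        exact ⟨u - w, by omega⟩
      have hq : γ ^ i * q₂ * (γ ^ i)⁻¹ = q₀ := by
        rw [hl₂, hconj, hl₀]; congr 2; omega
      have := hmove q₂ hf2 (γ ^ i) ⟨x₀, B.mem_F.2 hx₀⟩
      rw [hq] at this
      exact this hfix0

/-- The contradiction. -/
theorem absurd' (B : Bad a b t) : False := by
  classical
  have : Fact (Nat.Prime 2) := ⟨Nat.prime_two⟩
  have hyp := B.hyp
  obtain ⟨P, B2, a₀, hB, hBc, hBP, ha, hord, hfree, hprod, hPt, hvi⟩ := B.exists_sylow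
  obtain ⟨e', he⟩ : ∃ e', ee Ω = e' + 1 := ⟨ee Ω - 1, by have := hyp.one_le_ee; omega⟩
  set u := a₀ ^ 2 ^ e' with hu
  have hu2 : u * u = 1 := by
    rw [hu, ← pow_add, ← two_mul, ← pow_succ', ← he, ← hord, pow_orderOf_eq_one]
  have hu1 : u ≠ 1 := fun e => by
    rw [hu, ← orderOf_dvd_iff_pow_eq_one, hord, Nat.pow_dvd_pow_iff_le_right (by norm_num)] at e
    omega
  have huinv : u⁻¹ = u := inv_eq_of_mul_eq_one_right hu2
  have hufree : ∀ x : Ω, u • x ≠ x := by
    intro x hx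
    have := hfree x ((2 ^ e' : ℕ) : ℤ) (by rw [zpow_natCast]; exact hx)
    rw [zpow_natCast] at this
    exact hu1 this
  have huP : u ∈ (P : Subgroup G) := pow_mem ha _
  have hut : u * t = t * u := hPt u huP
  have hnoconj : ∀ g : G, g * t * g⁻¹ ≠ u := fun g e => hufree (g • a) (e ▸ B.fix_conj g)
  -- `u * t` is conjugate to `t`
  obtain ⟨g₁, z, hz, hzt, hza, hzb, hzfree⟩ := B.exists_conj_swap
  have hta : t • a = a := B.mem.1
  have htb : t • b = b := B.mem.2
  have htua : t • u • a = u • a := by rw [← mul_smul, ← hut, mul_smul, hta]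
  obtain ⟨g₂, hg₂t, hg₂a, hg₂b⟩ := B.two_trans (Ne.symm (hufree a)) B.ne hta htua hta htb
  set u' := g₂ * u * g₂⁻¹ with hu'
  have hu't : u' * t = t * u' :=
    B.mem_N.1 (mul_mem (mul_mem (B.mem_N.2 hg₂t) (B.mem_N.2 hut)) (inv_mem (B.mem_N.2 hg₂t)))
  have hu'a : u' • a = b := by
    rw [hu', mul_smul, mul_smul, show g₂⁻¹ • a = a from inv_smul_eq_iff.2 hg₂a.symm, hg₂b]
  have hu'2 : u' * u' = 1 := by
    rw [hu', show g₂ * u * g₂⁻¹ * (g₂ * u * g₂⁻¹) = g₂ * (u * u) * g₂⁻¹ by group, hu2]; group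
  have hu'b : u' • b = a := by rw [← hu'a, ← mul_smul, hu'2, one_smul]
  have hu'free : ∀ x : Ω, t • x = x → u' • x ≠ x := by
    intro x _ e
    rw [hu', mul_smul, mul_smul] at e
    exact hufree (g₂⁻¹ • x) (smul_left_cancel g₂ (e.trans (smul_inv_smul g₂ x).symm))
  obtain ⟨k, hk, hkx⟩ := B.fused hzt hu't hza hzb hu'a hu'b hzfree hu'free
  set z' := g₂⁻¹ * (k * z * k⁻¹) * g₂ with hz'
  have hkN := B.two_mem_N hk
  have hz't : z' * t = t * z' :=
    B.mem_N.1 (mul_mem (mul_mem (inv_mem (B.mem_N.2 hg₂t))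
      (mul_mem (mul_mem hkN (B.mem_N.2 hzt)) (inv_mem hkN))) (B.mem_N.2 hg₂t))
  have hz'x : ∀ x : Ω, t • x = x → z' • x = u • x := by
    intro x hx
    have hgx : t • g₂ • x = g₂ • x := by rw [← mul_smul, ← hg₂t, mul_smul, hx]
    rw [hz', mul_smul, mul_smul, hkx _ hgx, hu', mul_smul, mul_smul, inv_smul_smul, inv_smul_smul]
  set w := u * z' with hw
  have hwtriv : ∀ x : Ω, t • x = x → w • x = x := by
    intro x hx
    rw [hw, mul_smul, hz'x x hx, ← mul_smul, hu2, one_smul]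
  have hwu : u * w = w * u := B.triv_central hwtriv hut
  have hwz : z' * w = w * z' := B.triv_central hwtriv hz't
  have hz'conj : z' = g₂⁻¹ * k * g₁ * t * (g₂⁻¹ * k * g₁)⁻¹ := by rw [hz', hz]; group
  have hz'2 : z' * z' = 1 := by
    rw [hz'conj, show ∀ c : G, c * t * c⁻¹ * (c * t * c⁻¹) = c * (t * t) * c⁻¹ from
      fun c => by group, B.sq]; group
  have hww : w * w = 1 := by
    calc w * w = u * (z' * w) := by rw [hw]; simp only [mul_assoc]
      _ = u * (w * z') := by rw [hwz]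
      _ = 1 := by rw [hw]; simp only [← mul_assoc, hu2, one_mul, hz'2]
  have hwH : w ∈ twoStab a b := mem_twoStab.2 ⟨hwtriv a hta, hwtriv b htb⟩
  have hzu : z' = u * w := by rw [hw, ← mul_assoc, hu2, one_mul]
  have hw1 : w ≠ 1 := fun e => hnoconj (g₂⁻¹ * k * g₁) (by rw [← hz'conj, hzu, e, mul_one])
  have := hyp.cyclic_twoStab B.ne
  have hwt : w = t := invol_unique hwH B.mem hw1 B.ne_one hww B.sq
  have hutconj : g₂⁻¹ * k * g₁ * t * (g₂⁻¹ * k * g₁)⁻¹ = u * t := by
    rw [← hz'conj, hzu, hwt]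
  set c₁ := g₂⁻¹ * k * g₁
  -- conjugates of `u` are not `u * t`
  have hnoconj' : ∀ g : G, g * u * g⁻¹ ≠ u * t := by
    intro g e
    apply hnoconj (g⁻¹ * c₁)
    calc g⁻¹ * c₁ * t * (g⁻¹ * c₁)⁻¹ = g⁻¹ * (c₁ * t * c₁⁻¹) * g := by group
      _ = u := by rw [hutconj, ← e]; group
  -- `u` commutes with the full two-subgroup
  have hcentB : ∀ h ∈ B2, h * u = u * h := by
    intro h hhB
    have hBcomm : ∀ x ∈ B2, ∀ y ∈ B2, x * y = y * x := fun x hx y hy =>
      hyp.twoStab_comm B.ne (hB hx) (hB hy)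
    by_cases he0 : e' = 0
    · -- index two
      have hnorm : ∀ x ∈ B2, u * x * u⁻¹ ∈ B2 := by
        intro x hx
        have hP : u * x * u⁻¹ ∈ (P : Subgroup G) := mul_mem (mul_mem huP (hBP hx)) (inv_mem huP)
        obtain ⟨i, hi⟩ := hprod _ hP
        have hau : a₀ = u := by rw [hu, he0, pow_zero, pow_one]
        rcases Int.even_or_odd i with ⟨m, rfl⟩ | ⟨m, rfl⟩
        · rw [hau, ← two_mul, zpow_mul, zpow_two, hu2, one_zpow, inv_one, one_mul] at hi
          exact hi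
        · rw [hau, zpow_add, zpow_mul, zpow_two, hu2, one_zpow, zpow_one, one_mul, ← mul_assoc,
            ← mul_assoc, inv_mul_cancel, one_mul, huinv] at hi
          exfalso
          have : u ∈ B2 := by
            have := mul_mem (inv_mem hx) hi
            rwa [inv_mul_cancel_left] at this
          exact hufree a (hB this).1
      let φ : B2 →* B2 :=
        { toFun := fun x => ⟨u * x * u⁻¹ * (x : G)⁻¹, mul_mem (hnorm _ x.2) (inv_mem x.2)⟩
          map_one' := Subtype.ext (by simp)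
          map_mul' := fun x y => Subtype.ext (by
            simp only [Subgroup.coe_mul]
            rw [mul_inv_rev]
            have e1 := hBcomm _ (mul_mem (hnorm _ y.2) (inv_mem y.2)) _ (inv_mem x.2)
            calc u * (↑x * ↑y) * u⁻¹ * ((y : G)⁻¹ * (x : G)⁻¹)
                = u * x * u⁻¹ * ((u * y * u⁻¹ * (y : G)⁻¹) * (x : G)⁻¹) := by group
              _ = u * x * u⁻¹ * ((x : G)⁻¹ * (u * y * u⁻¹ * (y : G)⁻¹)) := by rw [e1]
              _ = _ := by group) }
      by_contra hne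
      have hd1 : φ ⟨h, hhB⟩ ≠ 1 := fun e => hne (by
        have e' : u * h * u⁻¹ * h⁻¹ = 1 := congrArg Subtype.val e
        rw [mul_inv_eq_one, mul_inv_eq_iff_eq_mul] at e'
        exact e'.symm)
      set d := φ ⟨h, hhB⟩
      obtain ⟨r, hr⟩ := IsPGroup.iff_orderOf.mp (IsPGroup.of_card hBc) d
      obtain ⟨r', rfl⟩ : ∃ r', r = r' + 1 := by
        refine ⟨r - 1, ?_⟩
        rcases Nat.eq_zero_or_pos r with h0 | h0
        · rw [h0, pow_zero, orderOf_eq_one_iff] at hr
          exact absurd hr hd1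
        · omega
      have hdt : ((d ^ 2 ^ r' : B2) : G) = t := by
        refine invol_unique (K := twoStab a b) (hB (d ^ 2 ^ r').2) B.mem ?_ B.ne_one ?_ B.sq
        · intro e
          have : d ^ 2 ^ r' = 1 := Subtype.ext e
          rw [← orderOf_dvd_iff_pow_eq_one, hr, Nat.pow_dvd_pow_iff_le_right (by norm_num)] at this
          omega
        · rw [← Subgroup.coe_mul, ← pow_add, ← two_mul, ← pow_succ', ← hr, pow_orderOf_eq_one,
            Subgroup.coe_one]
      rw [← map_pow] at hdt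
      set h' : G := Subtype.val ((⟨h, hhB⟩ : B2) ^ 2 ^ r')
      have hdt' : u * h' * u⁻¹ * h'⁻¹ = t := hdt
      refine hnoconj' h' ?_
      calc h' * u * h'⁻¹ = u * (u * h' * u⁻¹ * h'⁻¹) := by
            rw [huinv]
            calc h' * u * h'⁻¹ = (u * u) * (h' * u * h'⁻¹) := by rw [hu2, one_mul]
              _ = _ := by simp only [mul_assoc]
        _ = u * t := by rw [hdt']
    · -- the fixed point number is divisible by four
      let Q := (imgHom (Ω := Ω) (Subgroup.zpowers t)).range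
      let f : 𝔑 →* Q := (imgHom (Ω := Ω) (Subgroup.zpowers t)).rangeRestrict
      have haN : a₀ ∈ 𝔑 := B.mem_N.2 (hPt a₀ ha)
      have hhN : h ∈ 𝔑 := B.two_mem_N (hB hhB)
      set α := f ⟨a₀, haN⟩ with hα
      have hA : ∀ x (hx : x ∈ B2), f ⟨x, B.two_mem_N (hB hx)⟩ ∈ twoStab B.pa B.pb := fun x hx =>
        ⟨Subtype.ext (hB hx).1, Subtype.ext (hB hx).2⟩
      have hA2 : ∀ x (hx : x ∈ B2),
          f ⟨x, B.two_mem_N (hB hx)⟩ * f ⟨x, B.two_mem_N (hB hx)⟩ = 1 := by
        intro x hx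
        set q := f ⟨x, B.two_mem_N (hB hx)⟩ with hq
        obtain ⟨r, hr⟩ := IsPGroup.iff_orderOf.mp (IsPGroup.of_card hBc) (⟨x, hx⟩ : B2)
        rw [Subgroup.orderOf_mk] at hr
        have hxN : orderOf (⟨x, B.two_mem_N (hB hx)⟩ : 𝔑) = 2 ^ r := by rw [Subgroup.orderOf_mk, hr]
        have hdvd : orderOf q ∣ 2 ^ r := hxN ▸ orderOf_map_dvd f _
        obtain ⟨s, -, hs⟩ := (Nat.dvd_prime_pow Nat.prime_two).1 hdvd
        have hdA : orderOf q ∣ Nat.card (twoStab (G := Q) B.pa B.pb) :=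
          Subgroup.orderOf_dvd_natCard _ (hA x hx)
        have hc2 : Nat.card (twoStab (G := Q) B.pa B.pb) + 2 = Nat.card 𝔽 :=
          B.concl.card_two _ _ B.pab
        have h4F : 4 ∣ Nat.card 𝔽 := by
          have h0 : Nat.card 𝔽 ≠ 0 := by have : 4 ≤ Nat.card 𝔽 := B.four; omega
          have := Nat.ordProj_dvd (Nat.card 𝔽) 2
          rw [hvi, he] at this
          exact (pow_dvd_pow 2 (show 2 ≤ e' + 1 by omega)).trans this
        have hs1 : s ≤ 1 := by
          by_contra hs1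
          have h4 : 4 ∣ Nat.card (twoStab (G := Q) B.pa B.pb) :=
            (pow_dvd_pow 2 (show 2 ≤ s by omega)).trans (hs ▸ hdA)
          omega
        have hd2 : orderOf q ∣ 2 := by rw [hs]; exact (pow_dvd_pow 2 hs1).trans (by norm_num)
        have := orderOf_dvd_iff_pow_eq_one.1 hd2
        rwa [pow_two] at this
      set β := f ⟨h, hhN⟩ with hβ
      have hββ : β * β = 1 := hA2 h hhB
      have hβA : β ∈ twoStab B.pa B.pb := hA h hhB
      have hαfree : ∀ l : ℤ, α ^ l • B.pa = B.pa → α ^ l = 1 := by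
        intro l hl
        rw [hα, ← map_zpow] at hl
        have h1 : ((⟨a₀, haN⟩ : 𝔑) ^ l : 𝔑) = 1 := by
          refine Subtype.ext ?_
          rw [Subgroup.coe_zpow]
          exact hfree a l ((congrArg (fun g : G => g • a)
            (Subgroup.coe_zpow 𝔑 ⟨a₀, haN⟩ l)).symm.trans (congrArg Subtype.val hl))
        rw [hα, ← map_zpow, h1, map_one]
      -- conjugate of `α` by `β`
      have hconjα : ∃ l : ℤ, β * α * β⁻¹ = α ^ l := by
        have hP : h * a₀ * h⁻¹ ∈ (P : Subgroup G) :=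
          mul_mem (mul_mem (hBP hhB) ha) (inv_mem (hBP hhB))
        obtain ⟨l, hl⟩ := hprod _ hP
        set b' := f ⟨_, B.two_mem_N (hB hl)⟩ with hb'
        have hb'A : b' ∈ twoStab B.pa B.pb := hA _ hl
        have hb'2 : b' * b' = 1 := hA2 _ hl
        have e1 : β * α * β⁻¹ = α ^ l * b' := by
          rw [hβ, hα, hb', ← map_zpow, ← map_inv, ← map_mul, ← map_mul, ← map_mul]
          congr 1
          apply Subtype.ext
          simp only [Subgroup.coe_mul, Subgroup.coe_zpow, InvMemClass.coe_inv, mul_inv_cancel_left]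
        by_cases hb1 : b' = 1
        · exact ⟨l, by rw [e1, hb1, mul_one]⟩
        exfalso
        have := B.img.cyclic_twoStab B.pab
        rcases eq_or_ne β 1 with hβ1 | hβ1
        · rw [hβ1, one_mul, inv_one, mul_one] at e1
          apply hb1
          have h2 : b' = α ^ (1 - l) := by
            rw [sub_eq_neg_add, zpow_add, zpow_neg, zpow_one]
            nth_rw 2 [e1]
            rw [inv_mul_cancel_left]
          rw [h2]
          exact hαfree _ (h2 ▸ hb'A.1)
        · have hbb : b' = β := invol_unique hb'A hβA hb1 hβ1 hb'2 hββ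
          rw [hbb, inv_eq_of_mul_eq_one_right hββ] at e1
          have h2 : β * α = α ^ l := mul_right_cancel e1
          have h3 : β = α ^ (l - 1) := by
            rw [zpow_sub_one, ← h2, mul_inv_cancel_right]
          apply hβ1
          rw [h3]
          exact hαfree _ (h3 ▸ hβA.1)
      obtain ⟨l, hl⟩ := hconjα
      -- the involution in `zpowers α` is fixed
      set μ := α ^ ((2 ^ e' : ℕ) : ℤ) with hμ
      have hμu : μ = f ⟨u, B.mem_N.2 hut⟩ := by
        rw [hμ, zpow_natCast, hα, ← map_pow]; rfl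
      have hμ2 : μ * μ = 1 := by
        rw [hμu, ← map_mul, ← map_one f]; congr 1; exact Subtype.ext hu2
      have hμ1 : μ ≠ 1 := fun e => by
        have e2 : μ • B.pa = B.pa := by rw [e, one_smul]
        rw [hμu] at e2
        exact hufree a (congrArg Subtype.val e2)
      have hfix : β * μ * β⁻¹ = μ := by
        have hm : β * μ * β⁻¹ ∈ Subgroup.zpowers α := by
          refine ⟨l * ((2 ^ e' : ℕ) : ℤ), ?_⟩
          simp only
          rw [zpow_mul, ← hl, conj_zpow, hμ]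
        refine invol_unique (K := Subgroup.zpowers α) hm ⟨_, rfl⟩ ?_ hμ1 ?_ hμ2
        · intro e
          rw [mul_inv_eq_one, mul_eq_left] at e
          exact hμ1 e
        · rw [show β * μ * β⁻¹ * (β * μ * β⁻¹) = β * (μ * μ) * β⁻¹ by group, hμ2]; group
      -- lift
      set v := u * (h * u * h⁻¹) with hv
      have hvN : v ∈ 𝔑 := mul_mem (B.mem_N.2 hut)
        (mul_mem (mul_mem hhN (B.mem_N.2 hut)) (inv_mem hhN))
      have hvtriv : ∀ x : Ω, t • x = x → v • x = x := by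
        intro x hx
        have hq : f ⟨v, hvN⟩ = 1 := by
          have : (⟨v, hvN⟩ : 𝔑) = ⟨u, B.mem_N.2 hut⟩ * (⟨h, hhN⟩ * ⟨u, B.mem_N.2 hut⟩ *
              ⟨h, hhN⟩⁻¹) := rfl
          rw [this, map_mul, map_mul, map_mul, map_inv, ← hμu, ← hβ, hfix, hμ2]
        have h2 : f ⟨v, hvN⟩ • (⟨x, B.mem_F.2 hx⟩ : 𝔽) = ⟨x, B.mem_F.2 hx⟩ := by rw [hq, one_smul]
        exact congrArg Subtype.val h2
      have hvH : v ∈ twoStab a b := mem_twoStab.2 ⟨hvtriv a hta, hvtriv b htb⟩
      have hhu : u * v = h * u * h⁻¹ := by rw [hv, ← mul_assoc, hu2, one_mul]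
      have hvv : v * v = 1 := by
        have h1 : u * v = v * u := B.triv_central hvtriv hut
        have h2 : (u * v) * (u * v) = 1 := by
          rw [hhu, show h * u * h⁻¹ * (h * u * h⁻¹) = h * (u * u) * h⁻¹ by group, hu2]; group
        calc v * v = u * (u * v) * v := by rw [← mul_assoc u u v, hu2, one_mul]
          _ = u * (v * u) * v := by rw [h1]
          _ = (u * v) * (u * v) := by simp only [mul_assoc]
          _ = 1 := h2
      by_cases hv1 : v = 1
      · rw [hv1, mul_one] at hhu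
        exact (mul_inv_eq_iff_eq_mul.1 hhu.symm)
      · exfalso
        have := invol_unique hvH B.mem hv1 B.ne_one hvv B.sq
        exact hnoconj' h (by rw [← hhu, this])
  -- centres
  have hPu : ∀ g ∈ P, g * u = u * g := by
    intro g hg
    obtain ⟨i, hi⟩ := hprod g hg
    have h1 : g = a₀ ^ i * ((a₀ ^ i)⁻¹ * g) := by group
    rw [h1]
    have c1 : Commute (a₀ ^ i) u := by rw [hu]; exact ((Commute.refl a₀).zpow_left i).pow_right _
    exact (c1.mul_left (show Commute ((a₀ ^ i)⁻¹ * g) u from hcentB _ hi)).eq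
  have htcent : t ∈ Subgroup.centralizer ((P : Subgroup G) : Set G) :=
    Subgroup.mem_centralizer_iff.2 fun g hg => hPt g hg
  have hutcent : u * t ∈ Subgroup.centralizer ((P : Subgroup G) : Set G) :=
    Subgroup.mem_centralizer_iff.2 fun g hg =>
      ((show Commute g u from hPu g hg).mul_right (show Commute g t from hPt g hg)).eq
  obtain ⟨n, hn, hnt⟩ := P.conj_eq_normalizer_conj_of_mem_centralizer t c₁⁻¹ htcent
    (by rwa [inv_inv, hutconj])
  rw [inv_inv, hutconj] at hnt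
  -- `n` fixes `u`
  set m := n⁻¹ * u * n with hm
  have hninv : n⁻¹ ∈ Subgroup.normalizer ((P : Subgroup G) : Set G) := inv_mem hn
  have hmP : m ∈ (P : Subgroup G) := (Subgroup.mem_normalizer_iff''.1 hn u).1 huP
  have hmcent : ∀ g ∈ P, g * m = m * g := by
    intro g hg
    have hg' : n * g * n⁻¹ ∈ (P : Subgroup G) := (Subgroup.mem_normalizer_iff.1 hn g).1 hg
    have := hPu _ hg'
    calc g * m = n⁻¹ * (n * g * n⁻¹ * u) * n := by rw [hm]; group
      _ = n⁻¹ * (u * (n * g * n⁻¹)) * n := by rw [this]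
      _ = m * g := by rw [hm]; group
  have hmfree : ∀ x : Ω, m • x ≠ x := by
    intro x e
    rw [hm, mul_smul, mul_smul, inv_smul_eq_iff] at e
    exact hufree _ e
  have hm2 : m * m = 1 := by
    rw [hm, show n⁻¹ * u * n * (n⁻¹ * u * n) = n⁻¹ * (u * u) * n by group, hu2]; group
  have hmu : m = u := by
    obtain ⟨i, hi⟩ := hprod m hmP
    set h₀ := (a₀ ^ i)⁻¹ * m with hh₀
    have hc0 : Commute (a₀ ^ i) h₀ := by
      have h1 : Commute (a₀ ^ i) m := hmcent _ (zpow_mem ha i)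
      exact (Commute.refl (a₀ ^ i)).inv_right.mul_right h1
    have hmeq : m = a₀ ^ i * h₀ := by rw [hh₀]; group
    have hsq : a₀ ^ i * a₀ ^ i * (h₀ * h₀) = 1 := by
      calc a₀ ^ i * a₀ ^ i * (h₀ * h₀) = a₀ ^ i * (a₀ ^ i * h₀) * h₀ := by simp only [mul_assoc]
        _ = a₀ ^ i * (h₀ * a₀ ^ i) * h₀ := by rw [hc0.eq]
        _ = m * m := by rw [hmeq]; simp only [mul_assoc]
        _ = 1 := hm2
    have hai : a₀ ^ (i + i) = 1 := by
      refine hfree a _ ?_
      rw [zpow_add, eq_inv_of_mul_eq_one_left hsq]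
      exact mem_stabilizer_iff.1 (inv_mem (mul_mem (hB hi).1 (hB hi).1))
    have hh2 : h₀ * h₀ = 1 := by rwa [← zpow_add, hai, one_mul] at hsq
    have hai' : a₀ ^ i = 1 ∨ a₀ ^ i = u := by
      by_cases h1 : a₀ ^ i = 1
      · exact Or.inl h1
      · refine Or.inr (invol_unique (K := Subgroup.zpowers a₀) ⟨i, rfl⟩ ?_ h1 hu1 ?_ hu2)
        · exact pow_mem (Subgroup.mem_zpowers _) _
        · rw [← zpow_add, hai]
    have hh0t : h₀ = 1 ∨ h₀ = t := by
      by_cases h1 : h₀ = 1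
      · exact Or.inl h1
      · exact Or.inr (invol_unique (hB hi) B.mem h1 B.ne_one hh2 B.sq)
    rcases hai' with e1 | e1 <;> rcases hh0t with e2 | e2 <;> rw [hmeq, e1, e2]
    · exact absurd (by rw [hmeq, e1, e2, one_mul, one_smul] : m • a = a) (hmfree a)
    · exact absurd (by rw [hmeq, e1, e2, one_mul]; exact hta : m • a = a) (hmfree a)
    · rw [mul_one]
    · exfalso
      exact hnoconj' n⁻¹ (by rw [inv_inv, ← hm, hmeq, e1, e2])
  -- `n` has odd order modulo `P`
  have hswap : n⁻¹ * (u * t) * n = t := by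
    calc n⁻¹ * (u * t) * n = (n⁻¹ * u * n) * (n⁻¹ * t * n) := by group
      _ = u * (u * t) := by rw [← hm, hmu, ← hnt]
      _ = t := by rw [← mul_assoc, hu2, one_mul]
  have hn2 : Commute (n * n) t := by
    have h1 : n⁻¹ * (n⁻¹ * t * n) * n = t := by rw [← hnt]; exact hswap
    calc n * n * t = n * n * (n⁻¹ * (n⁻¹ * t * n) * n) := by rw [h1]
      _ = t * (n * n) := by group
  set NP := Subgroup.normalizer ((P : Subgroup G) : Set G)
  have : ((P : Subgroup G).subgroupOf NP).Normal := Subgroup.normal_in_normalizer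
  have hidx : Odd ((P : Subgroup G).subgroupOf NP).index := by
    rw [← Nat.not_even_iff_odd, even_iff_two_dvd]
    intro hd
    exact P.not_dvd_index (hd.trans (Subgroup.relIndex_dvd_index_of_le P.le_normalizer))
  have hpow := Subgroup.pow_index_mem ((P : Subgroup G).subgroupOf NP) ⟨n, hn⟩
  rw [Subgroup.mem_subgroupOf, Subgroup.coe_pow] at hpow
  obtain ⟨r, hr⟩ := hidx
  rw [hr] at hpow
  have hc3 : Commute (n ^ (2 * r + 1)) t := hPt _ hpow
  have hc4 : Commute (n ^ (2 * r)) t := by rw [pow_mul, pow_two]; exact hn2.pow_left r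
  have hnn : n = (n ^ (2 * r))⁻¹ * n ^ (2 * r + 1) := by rw [pow_succ, inv_mul_cancel_left]
  have hc5 : Commute n t := hnn ▸ hc4.inv_left.mul_left hc3
  apply hu1
  have h5 : n⁻¹ * t * n = t := by rw [mul_assoc, ← hc5.eq, inv_mul_cancel_left]
  rw [h5] at hnt
  exact mul_eq_right.1 hnt

end Bad

end Cfsg.Agent.H36.CyZ
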