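import Cfsg.Agent.H36.CyZ.Local

/-!
When every involution of a two point stabiliser fixes exactly two points, the degree is a prime
plus one and the group is sharply three times transitive.
-/

set_option autoImplicit false
set_option linter.unusedSectionVars false

namespace Cfsg.Agent.H36.CyZ

open MulAction
open scoped Pointwise

universe u v

variable {G : Type u} {Ω : Type v} [Group G] [MulAction G Ω]

variable (G Ω) in
/-- Involutions of two point stabilisers fix only two points. -/
def Small : Prop :=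
  ∀ (a b : Ω) (t : G), a ≠ b → t ∈ twoStab a b → t ≠ 1 → t * t = 1 →
    ∀ x : Ω, t • x = x → x = a ∨ x = b

variable [Finite G] [Finite Ω]

namespace Hyp

/-- The involution of a two point stabiliser. -/
theorem exists_invol_two (h : Hyp G Ω) {a b : Ω} (hab : a ≠ b) :
    ∃ t ∈ twoStab (G := G) a b, t ≠ 1 ∧ t * t = 1 := by
  have : Fact (Nat.Prime 2) := ⟨Nat.prime_two⟩
  obtain ⟨t, ht⟩ := exists_prime_orderOf_dvd_card' (G := twoStab (G := G) a b) 2 (h.even_twoStab hab)
  refine ⟨t, t.2, fun e => ?_, ?_⟩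
  · rw [show t = 1 from Subtype.ext e, orderOf_one] at ht
    omega
  · have := pow_orderOf_eq_one t
    rw [ht, pow_two] at this
    exact congrArg Subtype.val this

theorem twoStab_faithful (h : Hyp G Ω) {a b : Ω} (hab : a ≠ b) {k : G} (hk : k ∈ twoStab a b)
    (hc : ∀ w ∈ UU (G := G) a, k * w = w * k) : k = 1 := by
  have := h.faithful
  refine FaithfulSMul.eq_of_smul_eq_smul (α := Ω) fun y => ?_
  rw [one_smul]
  by_cases hy : y = a
  · rw [hy]; exact hk.1
  obtain ⟨w, hw, rfl⟩ := h.UU_trans hab (Ne.symm hy)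
  exact (h.fixed_iff_commute hab hk hw).2 (hc w hw)

theorem card_stab_eq (h : Hyp G Ω) {a b : Ω} (hab : a ≠ b) :
    Nat.card (stabilizer G a) = Nat.card (UU (G := G) a) * Nat.card (twoStab (G := G) a b) := by
  let f : UU (G := G) a × twoStab (G := G) a b → stabilizer G a := fun p =>
    ⟨p.1 * p.2, mul_mem (UU_le a p.1.2) p.2.2.1⟩
  have hf : Function.Bijective f := by
    refine ⟨fun p q e => ?_, fun g => ?_⟩
    · have e' : (p.1 : G) * p.2 = q.1 * q.2 := congrArg Subtype.val e
      have hb : (p.1 : G) • b = (q.1 : G) • b := by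
        have := congrArg (fun g : G => g • b) e'
        simp only [mul_smul] at this
        rwa [show (p.2 : G) • b = b from p.2.2.2, show (q.2 : G) • b = b from q.2.2.2] at this
      have h1 := h.UU_inj hab p.1.2 q.1.2 hb
      rw [h1] at e'
      exact Prod.ext (Subtype.ext h1) (Subtype.ext (mul_left_cancel e'))
    · obtain ⟨w, hw, k, hk, e⟩ := h.stab_decomp hab g.2
      exact ⟨(⟨w, hw⟩, ⟨k, hk⟩), Subtype.ext e.symm⟩
  rw [← Nat.card_congr (Equiv.ofBijective f hf), Nat.card_prod]

theorem coprime_UU (h : Hyp G Ω) {a b : Ω} (hab : a ≠ b) :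
    (Nat.card (UU (G := G) a)).Coprime (Nat.card (twoStab (G := G) a b)) := by
  have := h.zgroup a
  have hco := IsZGroup.coprime_commutator_index (stabilizer G a)
  have hc : Nat.card (commutator (stabilizer G a)) = Nat.card (UU (G := G) a) := by
    rw [UU, ← Subgroup.map_subtype_commutator]
    exact Nat.card_congr
      (Subgroup.equivMapOfInjective _ _ (stabilizer G a).subtype_injective).toEquiv
  have hm := (commutator (stabilizer G a)).card_mul_index
  rw [hc, h.card_stab_eq hab] at hm
  rw [Nat.eq_of_mul_eq_mul_left Nat.card_pos hm, hc] at hco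
  exact hco

theorem units_bound (h : Hyp G Ω) {a b : Ω} (hab : a ≠ b) :
    Nat.card (twoStab (G := G) a b) ∣ (Nat.card (UU (G := G) a)).totient ∧
    ((Nat.card (UU (G := G) a)).Prime ∨
      2 * Nat.card (twoStab (G := G) a b) ≤ (Nat.card (UU (G := G) a)).totient) := by
  classical
  have := h.cyclic_UU a
  set K := twoStab (G := G) a b
  set W := UU (G := G) a
  have hKN : K ≤ Subgroup.normalizer (W : Set G) := fun k hk => stab_le_normalizer_UU a hk.1
  let ψ : K →* MulAut W := W.normalizerMonoidHom.comp (Subgroup.inclusion hKN)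
  have hψ : Function.Injective ψ := by
    rw [injective_iff_map_eq_one]
    intro k hk
    refine Subtype.ext (h.twoStab_faithful hab k.2 fun w hw => ?_)
    have := congrArg (fun φ : MulAut W => ((φ ⟨w, hw⟩ : W) : G)) hk
    exact mul_inv_eq_iff_eq_mul.1 this
  have hcardA : Nat.card (MulAut W) = (Nat.card W).totient := IsCyclic.card_mulAut W
  have hd : Nat.card K ∣ (Nat.card W).totient := hcardA ▸ Subgroup.card_dvd_of_injective ψ hψ
  refine ⟨hd, ?_⟩
  by_cases hp : (Nat.card W).Prime
  · exact Or.inl hp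
  right
  have hWU : Nat.card W + 1 = Nat.card Ω := h.card_UU a
  have hm3 : 3 ≤ Nat.card W := by
    have := h.four
    omega
  have hmodd : Odd (Nat.card W) := by
    have := h.even
    rw [Nat.odd_iff]
    rw [Nat.even_iff] at this
    omega
  have hne : Nat.card K ≠ (Nat.card W).totient := by
    intro heq
    have hsurj : Function.Surjective ψ :=
      ((Nat.bijective_iff_injective_and_card ψ).2 ⟨hψ, by rw [hcardA]; exact heq⟩).2
    have := h.cyclic_twoStab hab
    have hcyc : IsCyclic (MulAut W) := isCyclic_of_surjective ψ hsurj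
    rw [(IsCyclic.mulAutMulEquiv W).isCyclic, ZMod.isCyclic_units_iff_of_odd hmodd] at hcyc
    obtain ⟨p, k, hpp, -, hk⟩ := hcyc
    obtain ⟨k', rfl⟩ : ∃ k', k = k' + 2 := by
      refine ⟨k - 2, ?_⟩
      rcases k with _ | _ | k
      · rw [pow_zero] at hk; omega
      · rw [pow_one] at hk; exact absurd (hk ▸ hpp) hp
      · omega
    have hdvd : p ∣ (Nat.card W).totient := by
      rw [hk, Nat.totient_prime_pow hpp (by omega), show k' + 2 - 1 = k' + 1 by omega, pow_succ]
      exact Dvd.dvd.mul_right (dvd_mul_left _ _) _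
    have hco := h.coprime_UU hab
    have hpW : p ∣ Nat.card W := hk ▸ dvd_pow_self p (by omega)
    exact hpp.not_dvd_one ((Nat.Coprime.gcd_eq_one hco) ▸
      Nat.dvd_gcd hpW (heq ▸ hdvd))
  obtain ⟨c, hc⟩ := hd
  have hpos : 0 < (Nat.card W).totient := Nat.totient_pos.2 (by omega)
  have hc2 : 2 ≤ c := by
    rcases c with _ | _ | c
    · rw [hc, mul_zero] at hpos; omega
    · exact absurd (hc.trans (mul_one _)).symm hne
    · omega
  rw [hc, mul_comm 2]
  exact Nat.mul_le_mul_left _ hc2

end Hyp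

/-- An involution with fixed points fixes exactly two. -/
theorem Small.mem_two (hs : Small G Ω) (h : Hyp G Ω) {z : G} {c : Ω} (hz1 : z ≠ 1)
    (hz2 : z * z = 1) (hzc : z • c = c) : ∃ d, c ≠ d ∧ z ∈ twoStab c d ∧
      ∀ x, z • x = x → x = c ∨ x = d := by
  have : Fact (Nat.Prime 2) := ⟨Nat.prime_two⟩
  have hp : IsPGroup 2 (Subgroup.zpowers z) := by
    refine IsPGroup.of_card (n := 1) ?_
    rw [Nat.card_zpowers, pow_one]
    exact orderOf_eq_prime (by rw [pow_two]; exact hz2) hz1
  obtain ⟨d, hd, hzd⟩ := h.exists_second hp (Subgroup.zpowers_le.2 hzc)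
  have hz : z ∈ twoStab c d := ⟨hzc, hzd (Subgroup.mem_zpowers z)⟩
  exact ⟨d, hd.symm, hz, hs c d z hd.symm hz hz1 hz2⟩

/-- The final count. -/
theorem Small.concl (hs : Small G Ω) (h : Hyp G Ω) : Concl G Ω := by
  classical
  have := h.faithful
  have := Fintype.ofFinite Ω
  choose τ hτm hτ1 hτ2 using fun (p : {p : Ω × Ω // p.1 ≠ p.2}) => h.exists_invol_two (G := G) p.2
  have key : ∀ a b : Ω, a ≠ b → (Nat.card (UU (G := G) a)).Prime ∧
      Nat.card (twoStab (G := G) a b) + 2 = Nat.card Ω ∧
      ∀ g : G, g • a = b → g • b = a → g * g = 1 := by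
    intro a b hab
    -- pairs whose involution moves `a`
    let Y : Finset (Ω × Ω) := Finset.univ.filter fun p => p.1 ≠ p.2 ∧ p.1 ≠ a ∧ p.2 ≠ a
    let φ : Ω × Ω → Ω := fun p => if hp : p.1 ≠ p.2 then τ ⟨p, hp⟩ • a else a
    have hφ : ∀ p ∈ Y, φ p ∈ Finset.univ.erase a := by
      intro p hp
      simp only [Y, Finset.mem_filter, Finset.mem_univ, true_and] at hp
      obtain ⟨h12, h1a, h2a⟩ := hp
      simp only [φ, dif_pos h12, Finset.mem_erase, Finset.mem_univ, and_true]
      intro e
      rcases hs _ _ _ h12 (hτm _) (hτ1 _) (hτ2 _) a e with e' | e'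
      · exact h1a e'.symm
      · exact h2a e'.symm
    -- all fibres have the same size
    have hequiv : ∀ c ≠ a, (Y.filter fun p => φ p = c).card = (Y.filter fun p => φ p = b).card := by
      intro c hc
      obtain ⟨g, hga, hgb⟩ := exists_map_pair h.two hc.symm hab
      refine Finset.card_bij' (fun p _ => (g • p.1, g • p.2)) (fun p _ => (g⁻¹ • p.1, g⁻¹ • p.2))
        ?_ ?_ ?_ ?_
      · intro p hp
        simp only [Y, Finset.mem_filter, Finset.mem_univ, true_and] at hp ⊢
        obtain ⟨⟨h12, h1a, h2a⟩, hpc⟩ := hp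
        have h12' : g • p.1 ≠ g • p.2 := fun e => h12 (smul_left_cancel g e)
        refine ⟨⟨h12', fun e => h1a (smul_left_cancel g (e.trans hga.symm)),
          fun e => h2a (smul_left_cancel g (e.trans hga.symm))⟩, ?_⟩
        simp only [φ, dif_pos h12] at hpc
        simp only [φ, dif_pos h12']
        set σ := g * τ ⟨p, h12⟩ * g⁻¹ with hσ
        have hσm : σ ∈ twoStab (g • p.1) (g • p.2) := mem_twoStab.2 ⟨by
          rw [hσ, mul_smul, mul_smul, inv_smul_smul, (mem_twoStab.1 (hτm ⟨p, h12⟩)).1], by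
          rw [hσ, mul_smul, mul_smul, inv_smul_smul, (mem_twoStab.1 (hτm ⟨p, h12⟩)).2]⟩
        have hσ1 : σ ≠ 1 := fun e => hτ1 ⟨p, h12⟩ (conj_eq_one_iff.1 e)
        have hσ2 : σ * σ = 1 := by
          rw [hσ, show g * τ ⟨p, h12⟩ * g⁻¹ * (g * τ ⟨p, h12⟩ * g⁻¹) =
            g * (τ ⟨p, h12⟩ * τ ⟨p, h12⟩) * g⁻¹ by group, hτ2]
          group
        have := h.cyclic_twoStab h12'
        rw [invol_unique (hτm ⟨(g • p.1, g • p.2), h12'⟩) hσm (hτ1 _) hσ1 (hτ2 _) hσ2,
          hσ, mul_smul, mul_smul, inv_smul_eq_iff.2 hga.symm, hpc, hgb]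
      · intro p hp
        simp only [Y, Finset.mem_filter, Finset.mem_univ, true_and] at hp ⊢
        obtain ⟨⟨h12, h1a, h2a⟩, hpc⟩ := hp
        have hga' : g⁻¹ • a = a := inv_smul_eq_iff.2 hga.symm
        have h12' : g⁻¹ • p.1 ≠ g⁻¹ • p.2 := fun e => h12 (smul_left_cancel g⁻¹ e)
        refine ⟨⟨h12', fun e => h1a (smul_left_cancel g⁻¹ (e.trans hga'.symm)),
          fun e => h2a (smul_left_cancel g⁻¹ (e.trans hga'.symm))⟩, ?_⟩
        simp only [φ, dif_pos h12] at hpc
        simp only [φ, dif_pos h12']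
        set σ := g⁻¹ * τ ⟨p, h12⟩ * g with hσ
        have hσm : σ ∈ twoStab (g⁻¹ • p.1) (g⁻¹ • p.2) := mem_twoStab.2 ⟨by
          rw [hσ, mul_smul, mul_smul, smul_inv_smul, (mem_twoStab.1 (hτm ⟨p, h12⟩)).1], by
          rw [hσ, mul_smul, mul_smul, smul_inv_smul, (mem_twoStab.1 (hτm ⟨p, h12⟩)).2]⟩
        have hσ1 : σ ≠ 1 := fun e => hτ1 ⟨p, h12⟩ (by
          have := congrArg (fun x => g * x * g⁻¹) e
          simpa [hσ, mul_assoc] using this)
        have hσ2 : σ * σ = 1 := by
          rw [hσ, show g⁻¹ * τ ⟨p, h12⟩ * g * (g⁻¹ * τ ⟨p, h12⟩ * g) =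
            g⁻¹ * (τ ⟨p, h12⟩ * τ ⟨p, h12⟩) * g by group, hτ2]
          group
        have := h.cyclic_twoStab h12'
        rw [invol_unique (hτm ⟨(g⁻¹ • p.1, g⁻¹ • p.2), h12'⟩) hσm (hτ1 _) hσ1 (hτ2 _) hσ2,
          hσ, mul_smul, mul_smul, hga, hpc, inv_smul_eq_iff, hgb]
      · intro p _; simp
      · intro p _; simp
    have hY : Y.card = (Fintype.card Ω - 1) * (Y.filter fun p => φ p = b).card := by
      rw [Finset.card_eq_sum_card_fiberwise hφ,
        Finset.sum_congr rfl fun c hc => hequiv c (Finset.ne_of_mem_erase hc), Finset.sum_const,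
        Finset.card_erase_of_mem (Finset.mem_univ a), Finset.card_univ, smul_eq_mul]
    have hY' : Y.card = (Fintype.card Ω - 1) * (Fintype.card Ω - 2) := by
      have : Y = (Finset.univ.erase a).offDiag := by
        ext ⟨x, y⟩
        simp only [Y, Finset.mem_filter, Finset.mem_univ, true_and, Finset.mem_offDiag,
          Finset.mem_erase, and_true]
        tauto
      rw [this, Finset.offDiag_card, Finset.card_erase_of_mem (Finset.mem_univ a), Finset.card_univ]
      obtain ⟨k, hk⟩ : ∃ k, Fintype.card Ω = k + 2 := ⟨Fintype.card Ω - 2, by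
        have := h.four
        rw [Nat.card_eq_fintype_card] at this
        omega⟩
      rw [hk, show k + 2 - 1 = k + 1 by omega, show k + 2 - 2 = k by omega]
      exact Nat.sub_eq_of_eq_add (by ring)
    have hn := h.four
    rw [Nat.card_eq_fintype_card] at hn
    have hN : (Y.filter fun p => φ p = b).card = Fintype.card Ω - 2 :=
      Nat.eq_of_mul_eq_mul_left (by omega) (hY.symm.trans hY')
    -- the involutions with fixed points swapping `a` and `b`
    let ζ : Ω × Ω → G := fun p => if hp : p.1 ≠ p.2 then τ ⟨p, hp⟩ else 1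
    set Z := (Y.filter fun p => φ p = b).image ζ with hZ
    have hZmem : ∀ z ∈ Z, z ≠ 1 ∧ z * z = 1 ∧ (∃ x : Ω, z • x = x) ∧ z • a = b ∧ z • b = a := by
      intro z hz
      simp only [hZ, Y, Finset.mem_image, Finset.mem_filter, Finset.mem_univ, true_and] at hz
      obtain ⟨p, ⟨⟨h12, -, -⟩, hpc⟩, rfl⟩ := hz
      simp only [φ, dif_pos h12] at hpc
      simp only [ζ, dif_pos h12]
      refine ⟨hτ1 _, hτ2 _, ⟨p.1, (hτm ⟨p, h12⟩).1⟩, hpc, ?_⟩
      rw [← hpc, ← mul_smul, hτ2, one_smul]
    have hZcard : Fintype.card Ω - 2 ≤ 2 * Z.card := by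
      rw [← hN]
      refine Finset.card_le_mul_card_image _ 2 fun z hz => ?_
      obtain ⟨hz1, hz2, ⟨x, hx⟩, -, -⟩ := hZmem z hz
      obtain ⟨y, hxy, -, hfix⟩ := hs.mem_two h hz1 hz2 hx
      refine (Finset.card_le_card (t := {(x, y), (y, x)}) ?_).trans Finset.card_le_two
      intro p hp
      simp only [Y, Finset.mem_filter, Finset.mem_univ, true_and] at hp
      obtain ⟨⟨⟨h12, -, -⟩, -⟩, hpz⟩ := hp
      simp only [ζ, dif_pos h12] at hpz
      have hp1 : z • p.1 = p.1 := hpz ▸ (hτm ⟨p, h12⟩).1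
      have hp2 : z • p.2 = p.2 := hpz ▸ (hτm ⟨p, h12⟩).2
      simp only [Finset.mem_insert, Finset.mem_singleton]
      rcases hfix _ hp1 with e1 | e1 <;> rcases hfix _ hp2 with e2 | e2
      · exact absurd (e1.trans e2.symm) h12
      · exact Or.inl (Prod.ext e1 e2)
      · exact Or.inr (Prod.ext e1 e2)
      · exact absurd (e1.trans e2.symm) h12
    obtain ⟨w₀, hw₀⟩ : Z.Nonempty := Finset.card_pos.1 (by omega)
    obtain ⟨w1, w2, -, w₀a, w₀b⟩ := hZmem w₀ hw₀
    have hmemK : ∀ g : G, g • a = b → g • b = a → w₀ * g ∈ twoStab a b := fun g ga gb =>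
      mem_twoStab.2 ⟨by rw [mul_smul, ga, w₀b], by rw [mul_smul, gb, w₀a]⟩
    have := Fintype.ofFinite G
    let K : Finset G := Finset.univ.filter fun g => g ∈ twoStab a b
    have hKcard : K.card = Nat.card (twoStab (G := G) a b) := by
      rw [Nat.card_eq_fintype_card]
      exact (Fintype.card_of_subtype K (by simp [K])).symm
    have hsub : Z.image (w₀ * ·) ⊆ K := by
      intro g hg
      simp only [Finset.mem_image] at hg
      obtain ⟨z, hz, rfl⟩ := hg
      obtain ⟨-, -, -, za, zb⟩ := hZmem z hz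
      simp only [K, Finset.mem_filter, Finset.mem_univ, true_and]
      exact hmemK z za zb
    have hZK : Z.card ≤ K.card := by
      rw [← Finset.card_image_of_injective Z (mul_right_injective w₀)]
      exact Finset.card_le_card hsub
    obtain ⟨hdvd, hcase⟩ := h.units_bound hab
    have hUU := h.card_UU a
    rw [Nat.card_eq_fintype_card (α := Ω)] at hUU
    have hprime : (Nat.card (UU (G := G) a)).Prime := by
      by_contra hp
      have h2 := hcase.resolve_left hp
      have hlt := Nat.totient_lt (Nat.card (UU (G := G) a)) (by omega)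
      have hne : (Nat.card (UU (G := G) a)).totient ≠ Nat.card (UU (G := G) a) - 1 := fun e =>
        hp ((Nat.totient_eq_iff_prime (by omega)).1 e)
      omega
    rw [Nat.totient_prime hprime] at hdvd
    -- a fixed point free involution swapping `a` and `b`
    obtain ⟨P, a₀, x₀, -, hord, hfree, -, -⟩ := h.sylow_data
    obtain ⟨e', he⟩ : ∃ e', ee Ω = e' + 1 := ⟨ee Ω - 1, by have := h.one_le_ee; omega⟩
    set u := a₀ ^ 2 ^ e' with hu
    have hu2 : u * u = 1 := by
      rw [hu, ← pow_add, ← two_mul, ← pow_succ', ← he, ← hord, pow_orderOf_eq_one]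
    have hufree : ∀ x : Ω, u • x ≠ x := by
      intro x hx
      have h1 := hfree x ((2 ^ e' : ℕ) : ℤ) (by rw [zpow_natCast]; exact hx)
      rw [zpow_natCast, ← orderOf_dvd_iff_pow_eq_one, hord,
        Nat.pow_dvd_pow_iff_le_right (by norm_num)] at h1
      omega
    obtain ⟨g, hga, hgb⟩ := exists_map_pair h.two (Ne.symm (hufree a)) hab
    set u' := g * u * g⁻¹ with hu'
    have hu'2 : u' * u' = 1 := by
      rw [hu', show g * u * g⁻¹ * (g * u * g⁻¹) = g * (u * u) * g⁻¹ by group, hu2]; group
    have hu'a : u' • a = b := by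
      conv_lhs => rw [← hga]
      rw [hu', mul_smul, mul_smul, inv_smul_smul, hgb]
    have hu'b : u' • b = a := by rw [← hu'a, ← mul_smul, hu'2, one_smul]
    have hu'free : ∀ x : Ω, u' • x ≠ x := by
      intro x e
      rw [hu', mul_smul, mul_smul] at e
      exact hufree (g⁻¹ • x) (smul_left_cancel g (e.trans (smul_inv_smul g x).symm))
    have hu'K : w₀ * u' ∈ K := by
      simp only [K, Finset.mem_filter, Finset.mem_univ, true_and]
      exact hmemK u' hu'a hu'b
    have hlt : Z.card < K.card := by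
      rw [← Finset.card_image_of_injective Z (mul_right_injective w₀)]
      refine Finset.card_lt_card ((Finset.ssubset_iff_of_subset hsub).2 ⟨_, hu'K, ?_⟩)
      simp only [Finset.mem_image, not_exists, not_and]
      intro z hz e
      obtain ⟨-, -, ⟨x, hx⟩, -, -⟩ := hZmem z hz
      rw [mul_left_cancel e] at hx
      exact hu'free x hx
    obtain ⟨c, hc⟩ := hdvd
    have hc1 : c = 1 := by
      rcases Nat.lt_or_ge c 2 with hlt2 | hge
      · rcases Nat.eq_zero_or_pos c with rfl | hpos
        · rw [mul_zero] at hc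
          omega
        · omega
      · exfalso
        have : Nat.card (twoStab (G := G) a b) * 2 ≤ Nat.card (twoStab (G := G) a b) * c :=
          Nat.mul_le_mul_left _ hge
        omega
    rw [hc1, mul_one] at hc
    refine ⟨hprime, by rw [Nat.card_eq_fintype_card (α := Ω)]; omega, ?_⟩
    -- inverted elements
    let J : Subgroup G :=
      { carrier := {k | k ∈ twoStab a b ∧ w₀ * k * w₀ = k⁻¹}
        one_mem' := ⟨one_mem _, by rw [mul_one, w2, inv_one]⟩
        mul_mem' := fun {x y} hx hy => ⟨mul_mem hx.1 hy.1, by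
          calc w₀ * (x * y) * w₀ = (w₀ * x * w₀) * (w₀ * y * w₀) := by
                rw [show w₀ * x * w₀ * (w₀ * y * w₀) = w₀ * x * (w₀ * w₀) * y * w₀ by
                  simp only [mul_assoc], w2, mul_one]
                simp only [mul_assoc]
            _ = x⁻¹ * y⁻¹ := by rw [hx.2, hy.2]
            _ = (x * y)⁻¹ := by
                rw [mul_inv_rev]
                exact h.twoStab_comm hab (inv_mem hx.1) (inv_mem hy.1)⟩
        inv_mem' := fun {x} hx => ⟨inv_mem hx.1, by
          rw [inv_inv]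
          calc w₀ * x⁻¹ * w₀ = w₀ * (w₀ * x * w₀) * w₀ := by rw [hx.2]
            _ = x := by
              rw [show w₀ * (w₀ * x * w₀) * w₀ = (w₀ * w₀) * x * (w₀ * w₀) by
                simp only [mul_assoc], w2, one_mul, mul_one]⟩ }
    have hJinv : ∀ z : G, z • a = b → z • b = a → z * z = 1 → w₀ * z ∈ J := by
      intro z za zb z2
      refine ⟨hmemK z za zb, ?_⟩
      rw [← mul_assoc, w2, one_mul, mul_inv_rev, inv_eq_of_mul_eq_one_right z2,
        inv_eq_of_mul_eq_one_right w2]
    have hJle : J ≤ twoStab a b := fun k hk => hk.1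
    let J' : Finset G := Finset.univ.filter fun g => g ∈ J
    have hJcard : J'.card = Nat.card J := by
      rw [Nat.card_eq_fintype_card]
      exact (Fintype.card_of_subtype J' (by simp [J'])).symm
    have hJgt : Z.card < J'.card := by
      rw [← Finset.card_image_of_injective Z (mul_right_injective w₀)]
      have hsubJ : Z.image (w₀ * ·) ⊆ J' := by
        intro k hk
        simp only [Finset.mem_image] at hk
        obtain ⟨z, hz, rfl⟩ := hk
        obtain ⟨-, z2, -, za, zb⟩ := hZmem z hz
        simp [J', hJinv z za zb z2]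
      refine Finset.card_lt_card ((Finset.ssubset_iff_of_subset hsubJ).2
        ⟨w₀ * u', by simp [J', hJinv u' hu'a hu'b hu'2], ?_⟩)
      simp only [Finset.mem_image, not_exists, not_and]
      intro z hz e
      obtain ⟨-, -, ⟨x, hx⟩, -, -⟩ := hZmem z hz
      rw [mul_left_cancel e] at hx
      exact hu'free x hx
    have hJtop : J = twoStab a b := by
      refine Subgroup.eq_of_le_of_card_ge hJle ?_
      obtain ⟨d, hd⟩ := Subgroup.card_dvd_of_le hJle
      have hHpos : 0 < Nat.card (twoStab (G := G) a b) := Nat.card_pos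
      rcases Nat.lt_or_ge d 2 with hlt2 | hge
      · rcases Nat.eq_zero_or_pos d with rfl | hpos
        · rw [mul_zero] at hd
          omega
        · rw [show d = 1 by omega, mul_one] at hd
          omega
      · exfalso
        have : Nat.card J * 2 ≤ Nat.card J * d := Nat.mul_le_mul_left _ hge
        omega
    intro g ga gb
    have := hJtop ▸ hmemK g ga gb
    have e := (this : w₀ * g ∈ J).2
    rw [← mul_assoc, w2, one_mul, mul_inv_rev, inv_eq_of_mul_eq_one_right w2] at e
    calc g * g = g * (g * w₀) * w₀ := by rw [mul_assoc, mul_assoc g w₀ w₀, w2, mul_one]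
      _ = 1 := by rw [e, ← mul_assoc, mul_inv_cancel, one_mul, w2]
  refine ⟨?_, fun a b hab => (key a b hab).2.1, ?_, fun a b g hab => (key a b hab).2.2 g⟩
  · obtain ⟨a⟩ := h.nonempty
    obtain ⟨b, hb⟩ : ∃ b, b ≠ a := by
      by_contra hn
      push Not at hn
      have : Subsingleton Ω := ⟨fun u v => by rw [hn u, hn v]⟩
      have := Finite.card_le_one_iff_subsingleton.2 this
      have := h.four
      omega
    exact ⟨_, (key a b hb.symm).1, (h.card_UU a).symm⟩
  · intro a b c g hab hac hbc ga gb gc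
    have hgH : g ∈ twoStab a b := ⟨ga, gb⟩
    obtain ⟨w, hw, rfl⟩ := h.UU_trans hab hac
    have hcomm := (h.fixed_iff_commute hab hgH hw).1 gc
    have hw1 : w ≠ 1 := fun e => hbc (by rw [e, one_smul])
    refine h.twoStab_faithful hab hgH fun v hv => ?_
    have : Fact (Nat.card (UU (G := G) a)).Prime := ⟨(key a b hab).1⟩
    obtain ⟨i, hi⟩ := mem_zpowers_of_prime_card (G := UU (G := G) a) (p := Nat.card (UU (G := G) a))
      rfl (g := ⟨w, hw⟩) (g' := ⟨v, hv⟩) (fun e => hw1 (congrArg Subtype.val e))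
    have hv' : w ^ i = v := congrArg Subtype.val hi
    rw [← hv']
    exact ((show Commute g w from hcomm).zpow_right i).eq

end Cfsg.Agent.H36.CyZ
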