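import Cfsg.Agent.H36.CyZ.Contra
import Cfsg.Agent.H36.CyZ.Count

/-!
The doubly transitive core: degree a prime plus one, sharply three times transitive.
-/

set_option autoImplicit false
set_option linter.unusedSectionVars false

namespace Cfsg.Agent.H36.CyZ

open MulAction

universe v

theorem Hyp.concl_aux : ∀ (n : ℕ) (G Ω : Type v) [Group G] [MulAction G Ω] [Finite G] [Finite Ω],
    Nat.card Ω = n → Hyp G Ω → Concl G Ω := by
  intro n
  induction n using Nat.strong_induction_on with
  | _ n ih =>
    intro G Ω _ _ _ _ hn h
    classical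
    refine Small.concl ?_ h
    intro a b t hab ht ht1 ht2 x hx
    set F := fixSub (Ω := Ω) (Subgroup.zpowers t) with hF
    have hp : IsPGroup 2 (Subgroup.zpowers t) := by
      have : Fact (Nat.Prime 2) := ⟨Nat.prime_two⟩
      refine IsPGroup.of_card (n := 1) ?_
      rw [Nat.card_zpowers, pow_one]
      exact orderOf_eq_prime (by rw [pow_two]; exact ht2) ht1
    have hle : Subgroup.zpowers t ≤ twoStab a b := Subgroup.zpowers_le.2 ht
    by_cases h4 : 4 ≤ Nat.card (fixSub (Ω := Ω) (Subgroup.zpowers t))
    · exfalso
      have hlt : Nat.card (fixSub (Ω := Ω) (Subgroup.zpowers t)) < n := by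
        rw [← hn]
        obtain ⟨c, hc⟩ : ∃ c : Ω, t • c ≠ c := by
          by_contra hall
          push Not at hall
          have := h.faithful
          exact ht1 (FaithfulSMul.eq_of_smul_eq_smul (α := Ω) fun y => by rw [hall y, one_smul])
        exact Finite.card_subtype_lt (p := fun y => y ∈ fixSub (Ω := Ω) (Subgroup.zpowers t))
          (x := c) fun hmem => hc (hmem t (Subgroup.mem_zpowers t))
      exact Bad.absurd' ⟨h, hab, ht, ht1, ht2, h4,
        ih _ hlt _ _ rfl (h.img_hyp hab hle hp h4)⟩
    · have heven : Even (Nat.card (fixSub (Ω := Ω) (Subgroup.zpowers t))) := by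
        rw [Hyp.card_fixSub]; exact h.even_fixed hp
      rw [Hyp.card_fixSub] at heven h4
      by_contra hno
      push Not at hno
      have hsub : (({a, b, x} : Finset Ω) : Set Ω) ⊆ fixedPoints (Subgroup.zpowers t) Ω := by
        intro z hz s
        simp only [Finset.coe_insert, Finset.coe_singleton, Set.mem_insert_iff,
          Set.mem_singleton_iff] at hz
        rcases hz with rfl | rfl | rfl
        · exact (hle s.2).1
        · exact (hle s.2).2
        · obtain ⟨k, hk⟩ := s.2
          change (s : G) • z = z
          rw [← hk]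
          exact mem_stabilizer_iff.1 (zpow_mem (show t ∈ stabilizer G z from hx) k)
      have h3 := Set.ncard_le_ncard hsub (Set.toFinite _)
      rw [Set.ncard_coe_finset, Finset.card_insert_of_notMem, Finset.card_pair hno.2.symm] at h3
      · obtain ⟨k, hk⟩ := heven
        omega
      · simp [hab, hno.1.symm]

theorem Hyp.conclusion {G Ω : Type v} [Group G] [MulAction G Ω] [Finite G] [Finite Ω]
    (h : Hyp G Ω) : Concl G Ω :=
  Hyp.concl_aux _ G Ω rfl h

end Cfsg.Agent.H36.CyZ
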