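import Cfsg.Agent.H36.CyZ.Sharp

/-!
Groups that are products of a cyclic group and a Z-group: elementary lemmas.
-/

set_option autoImplicit false
set_option linter.unusedSectionVars false

namespace Cfsg.Agent.H36.CyZ

open MulAction

universe u

variable {G : Type u} [Group G]

variable (G) in
/-- A factorisation by a cyclic group and a Z-group. -/
def Factored : Prop :=
  ∃ A B : Subgroup G, IsCyclic A ∧ IsZGroup B ∧ ∀ g : G, ∃ a ∈ A, ∃ b ∈ B, g = a * b

variable (G) in
/-- Trivial solvable radical. -/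
def NoRadical : Prop := ∀ N : Subgroup G, N.Normal → Group.IsSolvable N → N = ⊥

theorem Factored.map {K : Type u} [Group K] [Finite G] (h : Factored G) (f : G →* K)
    (hf : Function.Surjective f) : Factored K := by
  obtain ⟨A, B, hA, hB, hAB⟩ := h
  refine ⟨A.map f, B.map f, isCyclic_of_surjective _ (f.subgroupMap_surjective A),
    IsZGroup.of_surjective (f.subgroupMap_surjective B), fun k => ?_⟩
  obtain ⟨g, rfl⟩ := hf k
  obtain ⟨a, ha, b, hb, rfl⟩ := hAB g
  exact ⟨f a, ⟨a, ha, rfl⟩, f b, ⟨b, hb, rfl⟩, map_mul f a b⟩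

theorem Factored.subgroup {A B X : Subgroup G} (hA : IsCyclic A) (hB : IsZGroup B)
    (hAB : ∀ g : G, ∃ a ∈ A, ∃ b ∈ B, g = a * b) (hX : A ≤ X ∨ B ≤ X) : Factored X := by
  refine ⟨A.subgroupOf X, B.subgroupOf X, ?_, ?_, fun g => ?_⟩
  · have : IsCyclic (A ⊓ X : Subgroup G) := Subgroup.isCyclic_of_le inf_le_left
    have e : (A ⊓ X).subgroupOf X = A.subgroupOf X := Subgroup.inf_subgroupOf_right A X
    rw [← e]
    exact isCyclic_of_surjective (Subgroup.subgroupOfEquivOfLe (inf_le_right : A ⊓ X ≤ X)).symm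
      (Subgroup.subgroupOfEquivOfLe (inf_le_right : A ⊓ X ≤ X)).symm.surjective
  · exact IsZGroup.of_injective (f := (X.subtype.comp (B.subgroupOf X).subtype).codRestrict B
      fun g => g.2) (fun g g' e => by
        have e' := congrArg (fun z : B => (z : G)) e
        exact Subtype.ext (Subtype.ext e'))
  · obtain ⟨a, ha, b, hb, e⟩ := hAB (g : G)
    rcases hX with hX | hX
    · have hbX : b ∈ X := by
        rw [show b = a⁻¹ * (g : G) by rw [e, inv_mul_cancel_left]]
        exact mul_mem (inv_mem (hX ha)) g.2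
      exact ⟨⟨a, hX ha⟩, ha, ⟨b, hbX⟩, hb, Subtype.ext e⟩
    · have haX : a ∈ X := by
        rw [show a = (g : G) * b⁻¹ by rw [e, mul_inv_cancel_right]]
        exact mul_mem g.2 (inv_mem (hX hb))
      exact ⟨⟨a, haX⟩, ha, ⟨b, hX hb⟩, hb, Subtype.ext e⟩

/-- A solvable extension of a solvable group is solvable. -/
theorem solvable_of_ker {K : Type u} [Group K] (f : G →* K) (hker : Group.IsSolvable f.ker)
    (hK : Group.IsSolvable f.range) : Group.IsSolvable G :=
  Group.isSolvable_of_ker_le_range f.ker.subtype f.rangeRestrict (by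
    rw [MonoidHom.ker_rangeRestrict, Subgroup.range_subtype])

variable [Finite G]

theorem exists_radical : ∃ R : Subgroup G, R.Normal ∧ Group.IsSolvable R ∧
    ∀ N : Subgroup G, N.Normal → Group.IsSolvable N → N ≤ R := by
  classical
  obtain ⟨R, ⟨hRn, hRs⟩, hmax⟩ := Set.Finite.exists_maximalFor (fun R : Subgroup G => Nat.card R)
    {R | R.Normal ∧ Group.IsSolvable R} (Set.toFinite _) ⟨⊥, inferInstance, inferInstance⟩
  refine ⟨R, hRn, hRs, fun N hN hNs => ?_⟩
  have hsup : Group.IsSolvable (R ⊔ N : Subgroup G) := by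
    set f : (R ⊔ N : Subgroup G) →* G ⧸ R :=
      (QuotientGroup.mk' R).comp (R ⊔ N : Subgroup G).subtype
    have hker : Group.IsSolvable f.ker := by
      let g : f.ker →* R := ((R ⊔ N : Subgroup G).subtype.comp f.ker.subtype).codRestrict R
        fun x => (QuotientGroup.eq_one_iff _).1 x.2
      refine Group.isSolvable_of_isSolvable_injective (f := g) fun x y e => ?_
      have e' := congrArg (fun z : R => (z : G)) e
      exact Subtype.ext (Subtype.ext e')
    refine solvable_of_ker f hker ?_
    have hrange : f.range ≤ N.map (QuotientGroup.mk' R) := by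
      rw [MonoidHom.range_comp, Subgroup.range_subtype, Subgroup.map_sup,
        QuotientGroup.map_mk'_self, bot_sup_eq]
    have : Group.IsSolvable (N.map (QuotientGroup.mk' R)) :=
      Group.isSolvable_of_surjective ((QuotientGroup.mk' R).subgroupMap_surjective N)
    exact Group.isSolvable_of_isSolvable_injective (Subgroup.inclusion_injective hrange)
  have hle := hmax (j := R ⊔ N) ⟨inferInstance, hsup⟩ (Subgroup.card_le_of_le le_sup_left)
  have heq : R = R ⊔ N := Subgroup.eq_of_le_of_card_ge le_sup_left hle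
  rw [heq]; exact le_sup_right

theorem noRadical_quotient (R : Subgroup G) [R.Normal] (hRs : Group.IsSolvable R)
    (hmax : ∀ N : Subgroup G, N.Normal → Group.IsSolvable N → N ≤ R) : NoRadical (G ⧸ R) := by
  intro M hM hMs
  have hs : Group.IsSolvable (M.comap (QuotientGroup.mk' R)) := by
    set f : M.comap (QuotientGroup.mk' R) →* G ⧸ R :=
      (QuotientGroup.mk' R).comp (M.comap (QuotientGroup.mk' R)).subtype
    have hker : Group.IsSolvable f.ker := by
      let g : f.ker →* R :=
        ((M.comap (QuotientGroup.mk' R)).subtype.comp f.ker.subtype).codRestrict R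
          fun x => (QuotientGroup.eq_one_iff _).1 x.2
      refine Group.isSolvable_of_isSolvable_injective (f := g) fun x y e => ?_
      have e' := congrArg (fun z : R => (z : G)) e
      exact Subtype.ext (Subtype.ext e')
    refine solvable_of_ker f hker ?_
    have hrange : f.range ≤ M := by
      rintro _ ⟨x, rfl⟩
      exact x.2
    exact Group.isSolvable_of_isSolvable_injective (Subgroup.inclusion_injective hrange)
  have hle := hmax _ (Subgroup.normal_comap _) hs
  rw [← Subgroup.map_comap_eq_self_of_surjective (QuotientGroup.mk'_surjective R) M, eq_bot_iff]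
  rintro _ ⟨g, hg, rfl⟩
  exact Subgroup.mem_bot.2 ((QuotientGroup.eq_one_iff g).2 (hle hg))

/-- A normal subgroup of a group without radical has no radical. -/
theorem noRadical_normal (h : NoRadical G) (N : Subgroup G) [N.Normal] : NoRadical N := by
  intro S hS hSs
  obtain ⟨R₀, hR₀n, hR₀s, hR₀max⟩ := exists_radical (G := N)
  have hR₀ : R₀ = ⊥ := by
    have hnorm : (R₀.map N.subtype).Normal := by
      refine ⟨?_⟩
      rintro _ ⟨x, hx, rfl⟩ g
      let φ : MulAut N := MulAut.conjNormal g
      have : Group.IsSolvable (R₀.map φ.toMonoidHom) :=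
        Group.isSolvable_of_surjective (φ.toMonoidHom.subgroupMap_surjective R₀)
      have hn : (R₀.map φ.toMonoidHom).Normal := hR₀n.map _ φ.surjective
      exact ⟨φ x, hR₀max _ hn this ⟨x, hx, rfl⟩, rfl⟩
    have hsol : Group.IsSolvable (R₀.map N.subtype) :=
      Group.isSolvable_of_surjective (N.subtype.subgroupMap_surjective R₀)
    exact (Subgroup.map_eq_bot_iff_of_injective R₀ N.subtype_injective).1 (h _ hnorm hsol)
  exact eq_bot_iff.2 (hR₀ ▸ hR₀max S hS hSs)

theorem exists_minimal_normal (N₀ : Subgroup G) (hn : N₀.Normal) (hN₀ : N₀ ≠ ⊥) :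
    ∃ N : Subgroup G, N.Normal ∧ N ≠ ⊥ ∧ N ≤ N₀ ∧
      ∀ M : Subgroup G, M.Normal → M ≤ N → M = ⊥ ∨ M = N := by
  classical
  obtain ⟨N, ⟨hNn, hNb, hNle⟩, hmin⟩ := Set.Finite.exists_minimalFor
    (fun R : Subgroup G => Nat.card R) {R | R.Normal ∧ R ≠ ⊥ ∧ R ≤ N₀} (Set.toFinite _)
    ⟨N₀, hn, hN₀, le_rfl⟩
  refine ⟨N, hNn, hNb, hNle, fun M hM hle => ?_⟩
  by_cases hMb : M = ⊥
  · exact Or.inl hMb
  · exact Or.inr (Subgroup.eq_of_le_of_card_ge hle
      (hmin (j := M) ⟨hM, hMb, hle.trans hNle⟩ (Subgroup.card_le_of_le hle)))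

end Cfsg.Agent.H36.CyZ
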