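import Cfsg.Agent.H36.CyZ.Basic

/-!
Doubly transitive groups of even degree with Z-group point stabilisers and a Sylow 2-subgroup
with a semiregular cyclic part: structure of the point stabiliser.
-/

set_option autoImplicit false
set_option linter.unusedSectionVars false

namespace Cfsg.Agent.H36.CyZ

open MulAction
open scoped Pointwise

universe u v

section defs

variable (G : Type u) (Ω : Type v) [Group G] [MulAction G Ω]

/-- Stabiliser of two points. -/
abbrev twoStab {G : Type u} [Group G] {Ω : Type v} [MulAction G Ω] (a b : Ω) : Subgroup G :=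
  stabilizer G a ⊓ stabilizer G b

/-- The hypotheses. -/
structure Hyp : Prop where
  faithful : FaithfulSMul G Ω
  two : IsMultiplyPretransitive G Ω 2
  even : Even (Nat.card Ω)
  four : 4 ≤ Nat.card Ω
  zgroup : ∀ x : Ω, IsZGroup (stabilizer G x)
  sylow : ∃ (P : Sylow 2 G) (a : G) (x : Ω), a ∈ P ∧
    (∀ (y : Ω) (k : ℤ), a ^ k • y = y → a ^ k = 1) ∧ ∀ g ∈ P, ∃ k : ℤ, g • x = a ^ k • x

/-- The conclusion. -/
structure Concl : Prop where
  exists_prime : ∃ p : ℕ, p.Prime ∧ Nat.card Ω = p + 1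
  card_two : ∀ a b : Ω, a ≠ b → Nat.card (twoStab (G := G) a b) + 2 = Nat.card Ω
  sharp : ∀ (a b c : Ω) (g : G), a ≠ b → a ≠ c → b ≠ c → g • a = a → g • b = b → g • c = c → g = 1
  swap : ∀ (a b : Ω) (g : G), a ≠ b → g • a = b → g • b = a → g * g = 1

end defs

variable {G : Type u} {Ω : Type v} [Group G] [MulAction G Ω]

/-- Exponent of 2 in the degree. -/
noncomputable def ee (Ω : Type v) : ℕ := (Nat.card Ω).factorization 2

/-- Exponent of 2 in a point stabiliser. -/
noncomputable def hh (G : Type u) [Group G] (Ω : Type v) : ℕ :=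
  (Nat.card G).factorization 2 - (Nat.card Ω).factorization 2

theorem mem_twoStab {a b : Ω} {g : G} : g ∈ twoStab a b ↔ g • a = a ∧ g • b = b :=
  Iff.rfl

theorem card_conj (K : Subgroup G) (g : G) :
    Nat.card (K.map (MulAut.conj g).toMonoidHom) = Nat.card K :=
  (Nat.card_congr (K.equivMapOfInjective _ (MulAut.conj g).injective).toEquiv).symm

theorem mem_conj {K : Subgroup G} {g x : G} :
    x ∈ K.map (MulAut.conj g).toMonoidHom ↔ g⁻¹ * x * g ∈ K := by
  simp only [Subgroup.mem_map, MulEquiv.coe_toMonoidHom, MulAut.conj_apply]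
  constructor
  · rintro ⟨y, hy, rfl⟩
    simpa [mul_assoc] using hy
  · intro h
    exact ⟨_, h, by group⟩

theorem conj_le_twoStab {a b c d : Ω} {g : G} (hga : g • a = c) (hgb : g • b = d) {S : Subgroup G}
    (hS : S ≤ twoStab a b) : S.map (MulAut.conj g).toMonoidHom ≤ twoStab c d := by
  intro x hx
  obtain ⟨h1, h2⟩ := mem_twoStab.1 (hS (mem_conj.1 hx))
  rw [mul_smul, mul_smul, hga, inv_smul_eq_iff, hga] at h1
  rw [mul_smul, mul_smul, hgb, inv_smul_eq_iff, hgb] at h2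
  exact mem_twoStab.2 ⟨h1, h2⟩

namespace Hyp

variable [Finite G] [Finite Ω]

theorem nonempty (h : Hyp G Ω) : Nonempty Ω := by
  have := h.four
  exact (Nat.card_pos_iff.1 (by omega)).1

theorem pretrans (h : Hyp G Ω) : IsPretransitive G Ω := isTrans h.two

theorem index_stab (h : Hyp G Ω) (x : Ω) : (stabilizer G x).index = Nat.card Ω := by
  have := h.pretrans
  exact MulAction.index_stabilizer_of_transitive G x

theorem card_stab (h : Hyp G Ω) (x : Ω) :
    Nat.card (stabilizer G x) * Nat.card Ω = Nat.card G := by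
  rw [← h.index_stab x, Subgroup.card_mul_index]

theorem fact_stab (h : Hyp G Ω) (x : Ω) :
    (Nat.card (stabilizer G x)).factorization 2 = hh G Ω := by
  have := h.four
  rw [hh, ← h.card_stab x, Nat.factorization_mul Nat.card_pos.ne' (by omega), Finsupp.add_apply]
  omega

theorem fact_group (h : Hyp G Ω) : (Nat.card G).factorization 2 = ee Ω + hh G Ω := by
  obtain ⟨x⟩ := h.nonempty
  have := h.four
  rw [← h.fact_stab x, ee, ← h.card_stab x,
    Nat.factorization_mul Nat.card_pos.ne' (by omega), Finsupp.add_apply]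
  omega

theorem one_le_ee (h : Hyp G Ω) : 1 ≤ ee Ω := by
  have := h.four
  exact Nat.Prime.factorization_pos_of_dvd Nat.prime_two (by omega) h.even.two_dvd

theorem pow_le_stab (h : Hyp G Ω) (x : Ω) {K : Subgroup G} (hK : IsPGroup 2 K)
    (hKx : K ≤ stabilizer G x) : ∃ j ≤ hh G Ω, Nat.card K = 2 ^ j := by
  obtain ⟨j, hj⟩ := IsPGroup.iff_card.mp hK
  refine ⟨j, ?_, hj⟩
  have hd := Subgroup.card_dvd_of_le hKx
  rw [hj, Nat.Prime.pow_dvd_iff_le_factorization Nat.prime_two Nat.card_pos.ne', h.fact_stab] at hd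
  exact hd

end Hyp

theorem zpowers_free_orbit {a : G} (x : Ω) (hfree : ∀ (y : Ω) (k : ℤ), a ^ k • y = y → a ^ k = 1) :
    (orbit (Subgroup.zpowers a) x).ncard = orderOf a := by
  rw [← index_stabilizer, ← Nat.card_zpowers a]
  have : stabilizer (Subgroup.zpowers a) x = ⊥ := by
    refine (Subgroup.eq_bot_iff_forall _).2 fun g hg => ?_
    obtain ⟨k, hk⟩ := g.2
    refine Subtype.ext ?_
    simp only at hk
    rw [← hk, Subgroup.coe_one]
    refine hfree x k ?_
    rw [hk]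
    exact hg
  rw [this, Subgroup.index_bot]

theorem orderOf_dvd_card [Finite G] [Finite Ω] {a : G}
    (hfree : ∀ (y : Ω) (k : ℤ), a ^ k • y = y → a ^ k = 1) : orderOf a ∣ Nat.card Ω := by
  classical
  have := Fintype.ofFinite Ω
  have e := selfEquivSigmaOrbits (Subgroup.zpowers a) Ω
  rw [Nat.card_congr e]
  have := Fintype.ofFinite (Quotient (orbitRel (Subgroup.zpowers a) Ω))
  rw [Nat.card_sigma]
  refine Finset.dvd_sum fun q _ => ?_
  rw [Nat.card_coe_set_eq, zpowers_free_orbit _ hfree]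

namespace Hyp

variable [Finite G] [Finite Ω]

/-- The Sylow 2-subgroup from the hypotheses, with exact orders. -/
theorem sylow_data (h : Hyp G Ω) : ∃ (P : Sylow 2 G) (a : G) (x : Ω), a ∈ P ∧
    orderOf a = 2 ^ ee Ω ∧ (∀ (y : Ω) (k : ℤ), a ^ k • y = y → a ^ k = 1) ∧
    (∀ g ∈ P, ∃ k : ℤ, g • x = a ^ k • x) ∧
    Nat.card ((P : Subgroup G) ⊓ stabilizer G x : Subgroup G) = 2 ^ hh G Ω := by
  have : Fact (Nat.Prime 2) := ⟨Nat.prime_two⟩
  obtain ⟨P, a, x, haP, hfree, hprod⟩ := h.sylow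
  set K : Subgroup G := (P : Subgroup G) ⊓ stabilizer G x with hK
  have hKp : IsPGroup 2 K := P.isPGroup'.to_le inf_le_left
  obtain ⟨j, hj, hjc⟩ := h.pow_le_stab x hKp inf_le_right
  obtain ⟨i, hi, hic⟩ : ∃ i ≤ ee Ω, orderOf a = 2 ^ i := by
    obtain ⟨i, hi⟩ := IsPGroup.iff_orderOf.mp P.isPGroup' ⟨a, haP⟩
    rw [Subgroup.orderOf_mk] at hi
    refine ⟨i, ?_, hi⟩
    have hd := orderOf_dvd_card hfree
    have := h.four
    rw [hi, Nat.Prime.pow_dvd_iff_le_factorization Nat.prime_two (by omega)] at hd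
    exact hd
  have horb : (orbit (P : Subgroup G) x) = orbit (Subgroup.zpowers a) x := by
    refine Set.Subset.antisymm ?_ ?_
    · rintro _ ⟨⟨g, hg⟩, rfl⟩
      obtain ⟨k, hk⟩ := hprod g hg
      exact ⟨⟨a ^ k, ⟨k, rfl⟩⟩, hk.symm⟩
    · rintro _ ⟨⟨g, hg⟩, rfl⟩
      exact ⟨⟨g, (Subgroup.zpowers_le.2 haP) hg⟩, rfl⟩
  have hst : stabilizer (P : Subgroup G) x = K.subgroupOf P := by
    ext g
    simp only [Subgroup.mem_subgroupOf, mem_stabilizer_iff, hK, Subgroup.mem_inf, SetLike.coe_mem,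
      true_and]
    rfl
  have hidx := (K.subgroupOf (P : Subgroup G)).card_mul_index
  rw [← hst, index_stabilizer, horb, zpowers_free_orbit x hfree, hst,
    Nat.card_congr (Subgroup.subgroupOfEquivOfLe (inf_le_left : K ≤ P)).toEquiv, hjc, hic,
    Sylow.card_eq_multiplicity, h.fact_group, ← pow_add] at hidx
  have := Nat.pow_right_injective le_rfl hidx
  refine ⟨P, a, x, haP, ?_, hfree, hprod, ?_⟩
  · rw [hic]; congr 1; omega
  · rw [hjc]; congr 1; omega

theorem normal_semireg (h : Hyp G Ω) {x y : Ω} (hyx : y ≠ x) {U : Subgroup G} [IsCyclic U]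
    (hU : U ≤ stabilizer G x)
    (hnorm : ∀ g ∈ stabilizer G x, ∀ w ∈ U, g * w * g⁻¹ ∈ U) {w : G} (hw : w ∈ U)
    (hwy : w • y = y) : w = 1 := by
  have := h.faithful
  refine FaithfulSMul.eq_of_smul_eq_smul (α := Ω) fun z => ?_
  rw [one_smul]
  by_cases hz : z = x
  · rw [hz]; exact hU hw
  obtain ⟨g, hgx, hgy⟩ := exists_map_pair h.two hyx.symm (Ne.symm hz)
  have hconj : (U ⊓ stabilizer G y).map (MulAut.conj g).toMonoidHom ≤ U ⊓ stabilizer G z := by
    intro v hv
    obtain ⟨hv1, hv2⟩ := Subgroup.mem_inf.1 (mem_conj.1 hv)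
    refine Subgroup.mem_inf.2 ⟨?_, ?_⟩
    · have := hnorm g hgx _ hv1
      simpa [mul_assoc] using this
    · rw [mem_stabilizer_iff, mul_smul, mul_smul, hgy, inv_smul_eq_iff, hgy] at hv2
      exact hv2
  have hconj' : (U ⊓ stabilizer G z).map (MulAut.conj g⁻¹).toMonoidHom ≤ U ⊓ stabilizer G y := by
    intro v hv
    obtain ⟨hv1, hv2⟩ := Subgroup.mem_inf.1 (mem_conj.1 hv)
    refine Subgroup.mem_inf.2 ⟨?_, ?_⟩
    · have := hnorm g⁻¹ (inv_mem hgx) _ hv1
      simpa [mul_assoc] using this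
    · simp only [inv_inv] at hv2
      rw [mem_stabilizer_iff, mul_smul, mul_smul,
        show g⁻¹ • z = y from inv_smul_eq_iff.2 hgy.symm] at hv2
      exact mem_stabilizer_iff.2 (smul_left_cancel g (hv2.trans hgy.symm))
  have h1 := Subgroup.card_le_of_le hconj
  have h2 := Subgroup.card_le_of_le hconj'
  rw [card_conj] at h1 h2
  have heq := eq_of_card_eq_of_le_cyclic (K := U) (inf_le_left : U ⊓ stabilizer G y ≤ U)
    (inf_le_left : U ⊓ stabilizer G z ≤ U) (le_antisymm h1 h2)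
  exact (Subgroup.mem_inf.1 (heq ▸ Subgroup.mem_inf.2 ⟨hw, hwy⟩ : w ∈ U ⊓ stabilizer G z)).2

end Hyp

/-- The derived subgroup of a point stabiliser. -/
def UU (x : Ω) : Subgroup G := ⁅stabilizer G x, stabilizer G x⁆

theorem UU_le (x : Ω) : UU x ≤ stabilizer G x := by
  rw [UU, ← Subgroup.map_subtype_commutator]
  exact Subgroup.map_subtype_le _

theorem comm_mem_UU {x : Ω} {g k : G} (hg : g ∈ stabilizer G x) (hk : k ∈ stabilizer G x) :
    g * k * g⁻¹ * k⁻¹ ∈ UU x :=
  Subgroup.commutator_mem_commutator hg hk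

theorem conj_mem_UU {x : Ω} {g w : G} (hg : g ∈ stabilizer G x) (hw : w ∈ UU x) :
    g * w * g⁻¹ ∈ UU x := by
  have h1 := comm_mem_UU hg (UU_le x hw)
  have := mul_mem h1 hw
  simpa using this

theorem stab_le_normalizer_UU (x : Ω) :
    stabilizer G x ≤ Subgroup.normalizer (UU (G := G) x : Set G) := by
  intro g hg
  rw [Subgroup.mem_normalizer_iff]
  refine fun w => ⟨fun hw => conj_mem_UU hg hw, fun hw => ?_⟩
  have := conj_mem_UU (inv_mem hg) hw
  simpa [mul_assoc] using this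

namespace Hyp

variable [Finite G] [Finite Ω]

theorem cyclic_UU (h : Hyp G Ω) (x : Ω) : IsCyclic (UU (G := G) x) := by
  have := h.zgroup x
  have := IsZGroup.isCyclic_commutator (stabilizer G x)
  rw [UU, ← Subgroup.map_subtype_commutator]
  exact isCyclic_of_surjective
    (Subgroup.equivMapOfInjective _ _ (stabilizer G x).subtype_injective)
    (Subgroup.equivMapOfInjective _ _ (stabilizer G x).subtype_injective).surjective

theorem UU_free (h : Hyp G Ω) {x y : Ω} (hyx : y ≠ x) {w : G} (hw : w ∈ UU x) (hwy : w • y = y) :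
    w = 1 :=
  have := h.cyclic_UU x
  h.normal_semireg hyx (UU_le x) (fun _ hg _ hv => conj_mem_UU hg hv) hw hwy

theorem twoStab_comm (h : Hyp G Ω) {a b : Ω} (hab : a ≠ b) {g k : G} (hg : g ∈ twoStab a b)
    (hk : k ∈ twoStab a b) : g * k = k * g := by
  have := h.UU_free hab.symm (comm_mem_UU hg.1 hk.1)
    (mul_mem (mul_mem (mul_mem hg hk) (inv_mem hg)) (inv_mem hk)).2
  rwa [mul_inv_eq_one, mul_inv_eq_iff_eq_mul] at this

theorem cyclic_twoStab (h : Hyp G Ω) {a b : Ω} (hab : a ≠ b) :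
    IsCyclic (twoStab (G := G) a b) := by
  have := h.zgroup a
  have : IsZGroup (twoStab (G := G) a b) :=
    IsZGroup.of_injective (Subgroup.inclusion_injective (inf_le_left : twoStab a b ≤ stabilizer G a))
  exact isCyclic_of_comm fun x y => Subtype.ext (h.twoStab_comm hab x.2 y.2)

theorem even_fixed (h : Hyp G Ω) {S : Subgroup G} (hS : IsPGroup 2 S) :
    Even (fixedPoints S Ω).ncard := by
  have : Fact (Nat.Prime 2) := ⟨Nat.prime_two⟩
  have hm := hS.card_modEq_card_fixedPoints Ω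
  rw [Nat.card_coe_set_eq] at hm
  have := h.even
  rw [Nat.even_iff] at this ⊢
  rw [← this]
  exact hm.symm

theorem exists_second (h : Hyp G Ω) {x : Ω} {S : Subgroup G} (hS : IsPGroup 2 S)
    (hSx : S ≤ stabilizer G x) : ∃ y, y ≠ x ∧ S ≤ stabilizer G y := by
  by_contra hno
  push Not at hno
  have hfix : fixedPoints S Ω = {x} := by
    refine Set.ext fun y => ⟨fun hy => ?_, ?_⟩
    · by_contra hne
      exact hno y hne fun g hg => hy ⟨g, hg⟩
    · rintro rfl ⟨g, hg⟩
      exact hSx hg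
  have := h.even_fixed hS
  rw [hfix, Set.ncard_singleton] at this
  exact absurd this (by decide)

/-- Point stabilisers have even order. -/
theorem one_le_hh (h : Hyp G Ω) : 1 ≤ hh G Ω := by
  by_contra hlt
  obtain ⟨P, a, x, haP, hord, hfree, -, -⟩ := h.sylow_data
  have : Fact (Nat.Prime 2) := ⟨Nat.prime_two⟩
  have heq : Subgroup.zpowers a = (P : Subgroup G) := by
    refine Subgroup.eq_of_le_of_card_ge (Subgroup.zpowers_le.2 haP) ?_
    rw [Nat.card_zpowers, hord, Sylow.card_eq_multiplicity, h.fact_group]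
    have : hh G Ω = 0 := by omega
    simp [this]
  have := h.faithful
  have := card_eq_two_of_cyclic_sylow h.two h.even h.nonempty P (heq ▸ inferInstance)
  have := h.four
  omega

/-- Existence of the full 2-subgroup in a two point stabiliser. -/
theorem exists_full (h : Hyp G Ω) {a b : Ω} (hab : a ≠ b) :
    ∃ S : Subgroup G, S ≤ twoStab a b ∧ Nat.card S = 2 ^ hh G Ω := by
  obtain ⟨P, c, x, -, -, -, -, hcard⟩ := h.sylow_data
  have : Fact (Nat.Prime 2) := ⟨Nat.prime_two⟩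
  set K : Subgroup G := (P : Subgroup G) ⊓ stabilizer G x
  obtain ⟨y, hyx, hy⟩ := h.exists_second (P.isPGroup'.to_le (inf_le_left : K ≤ P)) inf_le_right
  obtain ⟨g, hga, hgb⟩ := exists_map_pair h.two hyx.symm hab
  exact ⟨_, conj_le_twoStab hga hgb (le_inf inf_le_right hy), by rw [card_conj]; exact hcard⟩

theorem full_unique (h : Hyp G Ω) {a b : Ω} (hab : a ≠ b) {S T : Subgroup G}
    (hS : S ≤ twoStab a b) (hT : T ≤ twoStab a b) (hc : Nat.card S = Nat.card T) : S = T :=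
  have := h.cyclic_twoStab hab
  eq_of_card_eq_of_le_cyclic hS hT hc

theorem even_twoStab (h : Hyp G Ω) {a b : Ω} (hab : a ≠ b) :
    2 ∣ Nat.card (twoStab (G := G) a b) := by
  obtain ⟨S, hS, hc⟩ := h.exists_full hab
  refine (dvd_pow_self 2 (Nat.one_le_iff_ne_zero.1 h.one_le_hh)).trans ?_
  rw [← hc]
  exact Subgroup.card_dvd_of_le hS

/-- Every Sylow 2-subgroup through a full subgroup has the product shape. -/
theorem sylow_shape (h : Hyp G Ω) {x : Ω} {S : Subgroup G} (hS : S ≤ stabilizer G x)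
    (hSc : Nat.card S = 2 ^ hh G Ω) (P' : Sylow 2 G) (hSP : S ≤ P') :
    ∃ a : G, a ∈ P' ∧ orderOf a = 2 ^ ee Ω ∧ (∀ (y : Ω) (k : ℤ), a ^ k • y = y → a ^ k = 1) ∧
      ∀ g ∈ P', ∃ k : ℤ, (a ^ k)⁻¹ * g ∈ S := by
  have : Fact (Nat.Prime 2) := ⟨Nat.prime_two⟩
  obtain ⟨P, a, z, haP, hord, hfree, -, -⟩ := h.sylow_data
  obtain ⟨c, hc⟩ := MulAction.exists_smul_eq G P P'
  have haP' : c * a * c⁻¹ ∈ (P' : Subgroup G) := by
    rw [← hc]
    exact Subgroup.smul_mem_pointwise_smul a (MulAut.conj c) (P : Subgroup G) haP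
  have hfree' : ∀ (y : Ω) (k : ℤ), (c * a * c⁻¹) ^ k • y = y → (c * a * c⁻¹) ^ k = 1 := by
    intro y k hk
    rw [conj_zpow] at hk ⊢
    have := hfree (c⁻¹ • y) k (by
      rw [mul_smul, mul_smul] at hk
      exact smul_left_cancel c (hk.trans (smul_inv_smul c y).symm))
    rw [this]; group
  refine ⟨c * a * c⁻¹, haP', ?_, hfree', fun g hg => ?_⟩
  · rw [← hord]
    exact (MulAut.conj c).orderOf_eq a
  set a' := c * a * c⁻¹
  have hord' : orderOf a' = 2 ^ ee Ω := hord ▸ (MulAut.conj c).orderOf_eq a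
  set K : Subgroup G := (P' : Subgroup G) ⊓ stabilizer G x with hK
  have hSK : S = K := by
    refine Subgroup.eq_of_le_of_card_ge (le_inf hSP hS) ?_
    obtain ⟨j, hj, hjc⟩ := h.pow_le_stab x (P'.isPGroup'.to_le (inf_le_left : K ≤ P')) inf_le_right
    rw [hSc, hjc]
    exact Nat.pow_le_pow_right two_pos hj
  have hst : stabilizer (P' : Subgroup G) x = K.subgroupOf P' := by
    ext g
    simp only [Subgroup.mem_subgroupOf, mem_stabilizer_iff, hK, Subgroup.mem_inf, SetLike.coe_mem,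
      true_and]
    rfl
  have hidx := (K.subgroupOf (P' : Subgroup G)).card_mul_index
  rw [← hst, index_stabilizer, hst,
    Nat.card_congr (Subgroup.subgroupOfEquivOfLe (inf_le_left : K ≤ P')).toEquiv,
    show Nat.card K = 2 ^ hh G Ω by rw [← hSK, hSc],
    Sylow.card_eq_multiplicity, h.fact_group, pow_add, mul_comm] at hidx
  have hcardorb : (orbit (P' : Subgroup G) x).ncard = 2 ^ ee Ω :=
    Nat.eq_of_mul_eq_mul_right (by positivity) hidx
  have horb : orbit (Subgroup.zpowers a') x = orbit (P' : Subgroup G) x := by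
    refine Set.eq_of_subset_of_ncard_le ?_ ?_ (Set.toFinite _)
    · rintro _ ⟨⟨w, hw⟩, rfl⟩
      exact ⟨⟨w, (Subgroup.zpowers_le.2 haP') hw⟩, rfl⟩
    · rw [hcardorb, zpowers_free_orbit x hfree', hord']
  obtain ⟨⟨w, k, rfl⟩, hk⟩ : g • x ∈ orbit (Subgroup.zpowers a') x := horb ▸ ⟨⟨g, hg⟩, rfl⟩
  refine ⟨k, hSK ▸ Subgroup.mem_inf.2 ⟨mul_mem (inv_mem (zpow_mem haP' k)) hg, ?_⟩⟩
  rw [mem_stabilizer_iff, mul_smul, inv_smul_eq_iff]
  exact hk.symm

end Hyp

/-- The fixed point set of a subgroup, acted on by its normaliser. -/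
def fixSub (S : Subgroup G) : SubMulAction (Subgroup.normalizer (S : Set G)) Ω where
  carrier := {x | ∀ s ∈ S, s • x = x}
  smul_mem' := by
    intro g x hx s hs
    have hmem : (g : G)⁻¹ * s * g ∈ S := (Subgroup.mem_normalizer_iff''.1 g.2 s).1 hs
    change s • (g : G) • x = (g : G) • x
    conv_rhs => rw [← hx _ hmem]
    rw [← mul_smul, ← mul_smul]
    group

theorem mem_fixSub {S : Subgroup G} {x : Ω} : x ∈ fixSub S ↔ ∀ s ∈ S, s • x = x := Iff.rfl

theorem fixSub_coe_smul {S : Subgroup G} (g : Subgroup.normalizer (S : Set G))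
    (x : fixSub (Ω := Ω) S) : ((g • x : fixSub (Ω := Ω) S) : Ω) = (g : G) • (x : Ω) := rfl

/-- The action of the normaliser on the fixed point set. -/
def imgHom (S : Subgroup G) :
    Subgroup.normalizer (S : Set G) →* Equiv.Perm (fixSub (Ω := Ω) S) :=
  MulAction.toPermHom _ _

theorem imgHom_apply (S : Subgroup G) (g : Subgroup.normalizer (S : Set G))
    (x : fixSub (Ω := Ω) S) : imgHom S g x = g • x := rfl

theorem range_smul (S : Subgroup G) (g : Subgroup.normalizer (S : Set G))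
    (x : fixSub (Ω := Ω) S) :
    ((imgHom (Ω := Ω) S).rangeRestrict g) • x = g • x := rfl

namespace Hyp

variable [Finite G] [Finite Ω]

theorem card_fixSub (S : Subgroup G) :
    Nat.card (fixSub (Ω := Ω) S) = (fixedPoints S Ω).ncard := by
  rw [← Nat.card_coe_set_eq]
  exact Nat.card_congr (Equiv.subtypeEquivRight fun x =>
    ⟨fun hx s => hx s.1 s.2, fun hx s hs => hx ⟨s, hs⟩⟩)

/-- The normaliser of a subgroup of a two point stabiliser is doubly transitive on its fixed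
points. -/
theorem exists_normalizer (h : Hyp G Ω) {a b : Ω} (hab : a ≠ b) {S : Subgroup G}
    (hS : S ≤ twoStab a b) {c d : Ω} (hcd : c ≠ d) (hS' : S ≤ twoStab c d) :
    ∃ g ∈ Subgroup.normalizer (S : Set G), g • a = c ∧ g • b = d := by
  obtain ⟨g, hga, hgb⟩ := exists_map_pair h.two hab hcd
  refine ⟨g, ?_, hga, hgb⟩
  have heq := h.full_unique hcd (conj_le_twoStab hga hgb hS) hS' (card_conj S g)
  exact Subgroup.mem_normalizer_iff_map_conj_eq.2 heq

theorem img_two (h : Hyp G Ω) {S : Subgroup G} :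
    IsMultiplyPretransitive (imgHom (Ω := Ω) S).range (fixSub (Ω := Ω) S) 2 := by
  rw [is_two_pretransitive_iff]
  intro a b c d hab hcd
  have hab' : (a : Ω) ≠ (b : Ω) := fun e => hab (Subtype.ext e)
  have hcd' : (c : Ω) ≠ (d : Ω) := fun e => hcd (Subtype.ext e)
  obtain ⟨g, hg, hga, hgb⟩ := h.exists_normalizer hab'
    (S := S) (fun s hs => mem_twoStab.2 ⟨a.2 s hs, b.2 s hs⟩) hcd'
    (fun s hs => mem_twoStab.2 ⟨c.2 s hs, d.2 s hs⟩)
  refine ⟨(imgHom (Ω := Ω) S).rangeRestrict ⟨g, hg⟩, ?_, ?_⟩ <;>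
    rw [range_smul] <;> apply Subtype.ext
  · exact hga
  · exact hgb

theorem img_zgroup (h : Hyp G Ω) {S : Subgroup G} (x : fixSub (Ω := Ω) S) :
    IsZGroup (stabilizer (imgHom (Ω := Ω) S).range x) := by
  have := h.zgroup (x : Ω)
  set N := Subgroup.normalizer (S : Set G)
  let K : Subgroup N := (stabilizer G (x : Ω)).subgroupOf N
  have hK : IsZGroup K := by
    refine IsZGroup.of_injective (f := ((N.subtype.comp K.subtype).codRestrict (stabilizer G (x : Ω))
      fun g => g.2)) ?_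
    intro g g' e
    have e' := congrArg (fun z : stabilizer G (x : Ω) => (z : G)) e
    exact Subtype.ext (Subtype.ext e')
  let f : K →* stabilizer (imgHom (Ω := Ω) S).range x :=
    ((imgHom (Ω := Ω) S).rangeRestrict.comp K.subtype).codRestrict _ fun g => by
      rw [mem_stabilizer_iff, MonoidHom.comp_apply, range_smul]
      exact Subtype.ext g.2
  refine IsZGroup.of_surjective (f := f) ?_
  rintro ⟨⟨-, g, rfl⟩, hg⟩
  refine ⟨⟨g, congrArg Subtype.val (show g • x = x from ?_)⟩, rfl⟩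
  exact hg

theorem mem_normalizer_of_comm {S : Subgroup G} {g : G} (hc : ∀ s ∈ S, g * s = s * g) :
    g ∈ Subgroup.normalizer (S : Set G) := by
  rw [Subgroup.mem_normalizer_iff]
  refine fun s => ⟨fun hs => ?_, fun hs => ?_⟩
  · rwa [show g * s * g⁻¹ = s by rw [hc s hs]; group]
  · have := hc _ hs
    have heq : s = g * s * g⁻¹ := by
      have h1 : g * s * g⁻¹ * g = g * (g * s * g⁻¹) := this.symm
      exact mul_left_cancel (show g * s = g * (g * s * g⁻¹) by rw [← h1]; group)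
    rw [heq]; exact hs

theorem twoStab_le_normalizer (h : Hyp G Ω) {a b : Ω} (hab : a ≠ b) {S : Subgroup G}
    (hS : S ≤ twoStab a b) : twoStab a b ≤ Subgroup.normalizer (S : Set G) :=
  fun _ hg => mem_normalizer_of_comm fun _ hs => h.twoStab_comm hab hg (hS hs)

/-- A Sylow 2-subgroup of a normaliser of product shape. -/
theorem local_sylow (h : Hyp G Ω) {a b : Ω} (hab : a ≠ b) {S : Subgroup G}
    (hS : S ≤ twoStab a b) {B2 : Subgroup G} (hB : B2 ≤ twoStab a b)
    (hBc : Nat.card B2 = 2 ^ hh G Ω) :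
    ∃ (P : Sylow 2 G) (a₀ : G) (j : ℕ) (T : Sylow 2 (Subgroup.normalizer (S : Set G))),
      B2 ≤ P ∧ a₀ ∈ P ∧ orderOf a₀ = 2 ^ ee Ω ∧ j ≤ ee Ω ∧
      (∀ (y : Ω) (k : ℤ), a₀ ^ k • y = y → a₀ ^ k = 1) ∧
      (∀ g ∈ P, ∃ k : ℤ, (a₀ ^ k)⁻¹ * g ∈ B2) ∧
      a₀ ^ 2 ^ j ∈ Subgroup.normalizer (S : Set G) ∧
      (∀ g : Subgroup.normalizer (S : Set G), g ∈ T ↔
        ∃ k : ℤ, ((a₀ ^ 2 ^ j) ^ k)⁻¹ * (g : G) ∈ B2) := by
  have : Fact (Nat.Prime 2) := ⟨Nat.prime_two⟩
  set N := Subgroup.normalizer (S : Set G)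
  have hBN : B2 ≤ N := hB.trans (h.twoStab_le_normalizer hab hS)
  have hBp : IsPGroup 2 B2 := IsPGroup.of_card hBc
  obtain ⟨T, hT⟩ := (hBp.comap_of_injective N.subtype N.subtype_injective).exists_le_sylow
  obtain ⟨P, hP⟩ := (T.isPGroup'.map N.subtype).exists_le_sylow
  have hBP : B2 ≤ P := fun g hg => hP ⟨⟨g, hBN hg⟩, hT hg, rfl⟩
  obtain ⟨a₀, ha, hord, hfree, hprod⟩ := h.sylow_shape (hB.trans inf_le_left) hBc P hBP
  -- the part of `zpowers a₀` in the normaliser
  have hdvd : Nat.card (Subgroup.zpowers a₀ ⊓ N : Subgroup G) ∣ 2 ^ ee Ω := by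
    rw [← hord, ← Nat.card_zpowers]
    exact Subgroup.card_dvd_of_le inf_le_left
  obtain ⟨i, hi, hic⟩ := (Nat.dvd_prime_pow Nat.prime_two).1 hdvd
  have hpow : orderOf (a₀ ^ 2 ^ (ee Ω - i)) = 2 ^ i := by
    rw [orderOf_pow' _ (by positivity), hord, Nat.gcd_eq_right (pow_dvd_pow 2 (by omega)),
      Nat.pow_div (by omega) two_pos]
    congr 1
    omega
  have hz : Subgroup.zpowers (a₀ ^ 2 ^ (ee Ω - i)) = Subgroup.zpowers a₀ ⊓ N := by
    refine eq_of_card_eq_of_le_cyclic (K := Subgroup.zpowers a₀)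
      (Subgroup.zpowers_le.2 (pow_mem (Subgroup.mem_zpowers _) _)) inf_le_left ?_
    rw [Nat.card_zpowers, hpow, hic]
  have hmemN : a₀ ^ 2 ^ (ee Ω - i) ∈ N :=
    (hz ▸ Subgroup.mem_zpowers _ : a₀ ^ 2 ^ (ee Ω - i) ∈ Subgroup.zpowers a₀ ⊓ N).2
  have hmax : (P : Subgroup G).comap N.subtype = T :=
    T.is_maximal' (P.isPGroup'.comap_of_injective N.subtype N.subtype_injective)
      fun g hg => hP ⟨g, hg, rfl⟩
  refine ⟨P, a₀, ee Ω - i, T, hBP, ha, hord, by omega, hfree, hprod, hmemN, fun g => ?_⟩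
  constructor
  · intro hg
    have hgP : (g : G) ∈ P := hP ⟨g, hg, rfl⟩
    obtain ⟨k, hk⟩ := hprod g hgP
    have hak : a₀ ^ k ∈ Subgroup.zpowers a₀ ⊓ N := by
      refine Subgroup.mem_inf.2 ⟨⟨k, rfl⟩, ?_⟩
      rw [show a₀ ^ k = (g : G) * ((a₀ ^ k)⁻¹ * g)⁻¹ by group]
      exact mul_mem g.2 (inv_mem (hBN hk))
    rw [← hz] at hak
    obtain ⟨l, hl⟩ := hak
    refine ⟨l, ?_⟩
    simp only at hl
    rw [hl]; exact hk
  · rintro ⟨k, hk⟩
    change g ∈ (T : Subgroup _)
    rw [← hmax]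
    change (g : G) ∈ P
    have := mul_mem (zpow_mem (pow_mem ha (2 ^ (ee Ω - i))) k) (hBP hk)
    rwa [mul_inv_cancel_left] at this

/-- A full 2-subgroup of a two point stabiliser fixes only these two points. -/
theorem fix_full (h : Hyp G Ω) {a b : Ω} (hab : a ≠ b) {B2 : Subgroup G} (hB : B2 ≤ twoStab a b)
    (hBc : Nat.card B2 = 2 ^ hh G Ω) {y : Ω} (hy : ∀ s ∈ B2, s • y = y) : y = a ∨ y = b := by
  classical
  have : Fact (Nat.Prime 2) := ⟨Nat.prime_two⟩
  set N := Subgroup.normalizer (B2 : Set G)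
  obtain ⟨P, a₀, j, T, -, -, -, -, -, -, hmem, hT⟩ := h.local_sylow hab hB hB hBc
  set f := (imgHom (Ω := Ω) B2).rangeRestrict
  have hf : Function.Surjective f := (imgHom (Ω := Ω) B2).rangeRestrict_surjective
  have hcyc : IsCyclic (T.mapSurjective hf : Subgroup (imgHom (Ω := Ω) B2).range) := by
    refine Subgroup.isCyclic_of_le
      (H' := Subgroup.zpowers (f ⟨a₀ ^ 2 ^ j, hmem⟩)) ?_
    rintro _ ⟨g, hg, rfl⟩
    obtain ⟨k, hk⟩ := (hT g).1 hg
    refine ⟨k, ?_⟩
    have hker : f ((⟨a₀ ^ 2 ^ j, hmem⟩ ^ k)⁻¹ * g) = 1 := by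
      refine Subtype.ext (Equiv.ext fun z => Subtype.ext ?_)
      exact z.2 _ hk
    simp only
    rwa [map_mul, map_inv, inv_mul_eq_one, map_zpow] at hker
  have hne : Nonempty (fixSub (Ω := Ω) B2) := ⟨⟨a, fun s hs => (hB hs).1⟩⟩
  have h2c : Nat.card (fixSub (Ω := Ω) B2) = 2 :=
    card_eq_two_of_cyclic_sylow h.img_two
      (by rw [card_fixSub]; exact h.even_fixed (IsPGroup.of_card hBc)) hne _ hcyc
  by_contra hno
  push Not at hno
  rw [card_fixSub] at h2c
  have hsub : ((({a, b, y} : Finset Ω) : Set Ω)) ⊆ fixedPoints B2 Ω := by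
    intro z hz s
    simp only [Finset.coe_insert, Finset.coe_singleton, Set.mem_insert_iff,
      Set.mem_singleton_iff] at hz
    rcases hz with rfl | rfl | rfl
    · exact (hB s.2).1
    · exact (hB s.2).2
    · exact hy s s.2
  have := Set.ncard_le_ncard hsub (Set.toFinite _)
  rw [Set.ncard_coe_finset, h2c, Finset.card_insert_of_notMem, Finset.card_pair hno.2.symm] at this
  · omega
  · simp [hab, hno.1.symm]

/-- The derived subgroup of a point stabiliser is regular on the other points. -/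
theorem UU_trans (h : Hyp G Ω) {a b c : Ω} (hab : a ≠ b) (hac : a ≠ c) :
    ∃ w ∈ UU (G := G) a, w • b = c := by
  classical
  have : Fact (Nat.Prime 2) := ⟨Nat.prime_two⟩
  obtain ⟨B2, hB, hBc⟩ := h.exists_full hab
  obtain ⟨g, hga, hgb⟩ := exists_map_pair h.two hab hac
  have hga' : g ∈ stabilizer G a := hga
  set B' := B2.map (MulAut.conj g).toMonoidHom with hB'
  have hBn : B2 ≤ Subgroup.normalizer (UU (G := G) a : Set G) :=
    (hB.trans inf_le_left).trans (stab_le_normalizer_UU a)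
  set W := UU a ⊔ B2 with hW
  have hWle : W ≤ stabilizer G a := sup_le (UU_le a) (hB.trans inf_le_left)
  have hB'W : B' ≤ W := by
    intro x hx
    have hs := mem_conj.1 hx
    have : x = (g * (g⁻¹ * x * g) * g⁻¹ * (g⁻¹ * x * g)⁻¹) * (g⁻¹ * x * g) := by group
    rw [this]
    exact mul_mem (le_sup_left (a := UU a) (comm_mem_UU hga' (hB hs).1)) (le_sup_right (a := UU a) hs)
  have hfac : (Nat.card W).factorization 2 = hh G Ω := by
    refine le_antisymm ?_ ?_
    · rw [← h.fact_stab a]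
      exact Nat.factorization_le_iff_dvd Nat.card_pos.ne' Nat.card_pos.ne' |>.2
        (Subgroup.card_dvd_of_le hWle) 2
    · rw [← Nat.Prime.pow_dvd_iff_le_factorization Nat.prime_two Nat.card_pos.ne', ← hBc]
      exact Subgroup.card_dvd_of_le le_sup_right
  let S1 : Sylow 2 W := Sylow.ofCard (B2.subgroupOf W) (by
    rw [Nat.card_congr (Subgroup.subgroupOfEquivOfLe (le_sup_right : B2 ≤ W)).toEquiv, hBc, hfac])
  let S2 : Sylow 2 W := Sylow.ofCard (B'.subgroupOf W) (by
    rw [Nat.card_congr (Subgroup.subgroupOfEquivOfLe hB'W).toEquiv, hB', card_conj, hBc, hfac])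
  obtain ⟨⟨w, hw⟩, hwS⟩ := MulAction.exists_smul_eq W S1 S2
  have hw2 : w ∈ (UU (G := G) a : Set G) * (B2 : Set G) := by
    rw [← Subgroup.coe_mul_of_right_le_normalizer_left (UU a) B2 hBn]
    exact hw
  obtain ⟨v, hv, s, hs, rfl⟩ := Set.mem_mul.1 hw2
  refine ⟨v, hv, ?_⟩
  have hfix : ∀ x ∈ B2, x • (v⁻¹ • c) = v⁻¹ • c := by
    intro x hx
    have h1 : (⟨v * s, hw⟩ : W) * ⟨x, le_sup_right (a := UU a) hx⟩ * ⟨v * s, hw⟩⁻¹ ∈ (S2 : Subgroup W) := by
      rw [← hwS, Sylow.smul_def, Sylow.pointwise_smul_def, Subgroup.pointwise_smul_def]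
      exact ⟨⟨x, le_sup_right (a := UU a) hx⟩, Subgroup.mem_subgroupOf.2 hx, rfl⟩
    have h2 : v * (s * x * s⁻¹) * v⁻¹ ∈ B' := by
      have := Subgroup.mem_subgroupOf.1 h1
      simpa [mul_assoc] using this
    rw [show s * x * s⁻¹ = x by
      rw [h.twoStab_comm hab (hB hs) (hB hx)]; group] at h2
    have h3 : v * x * v⁻¹ ∈ twoStab a c := conj_le_twoStab hga hgb hB h2
    have h4 : (v * x * v⁻¹) • c = c := h3.2
    rw [mul_smul, mul_smul, ← eq_inv_smul_iff] at h4
    exact h4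
  rcases h.fix_full hab hB hBc hfix with e | e
  · exfalso
    rw [inv_smul_eq_iff, (UU_le a hv : v • a = a)] at e
    exact hac e.symm
  · rw [inv_smul_eq_iff] at e
    exact e.symm

theorem UU_inj (h : Hyp G Ω) {a b : Ω} (hab : a ≠ b) {v w : G} (hv : v ∈ UU a) (hw : w ∈ UU a)
    (he : v • b = w • b) : v = w := by
  have := h.UU_free hab.symm (mul_mem (inv_mem hw) hv) (by rw [mul_smul, he, inv_smul_smul])
  rwa [inv_mul_eq_one, eq_comm] at this

theorem card_UU (h : Hyp G Ω) (a : Ω) : Nat.card (UU (G := G) a) + 1 = Nat.card Ω := by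
  obtain ⟨b, hb⟩ : ∃ b, b ≠ a := by
    by_contra hn
    push Not at hn
    have : Subsingleton Ω := ⟨fun u v => by rw [hn u, hn v]⟩
    have := Finite.card_le_one_iff_subsingleton.2 this
    have := h.four
    omega
  have hmem : ∀ w : UU (G := G) a, (w : G) • b ≠ a := fun w e =>
    hb (smul_left_cancel (w : G) (e.trans (UU_le a w.2 : (w : G) • a = a).symm))
  let f : UU (G := G) a → {y : Ω // y ≠ a} := fun w => ⟨(w : G) • b, hmem w⟩
  have hf : Function.Bijective f := by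
    refine ⟨fun v w e => Subtype.ext (h.UU_inj hb.symm v.2 w.2 (congrArg Subtype.val e)), ?_⟩
    rintro ⟨y, hy⟩
    obtain ⟨w, hw, rfl⟩ := h.UU_trans hb.symm (Ne.symm hy)
    exact ⟨⟨w, hw⟩, rfl⟩
  classical
  have := Fintype.ofFinite Ω
  rw [Nat.card_congr (Equiv.ofBijective f hf), Nat.card_eq_fintype_card, Nat.card_eq_fintype_card,
    Fintype.card_subtype_compl, Fintype.card_subtype_eq]
  have := h.four
  rw [Nat.card_eq_fintype_card] at this
  omega

theorem stab_decomp (h : Hyp G Ω) {a b : Ω} (hab : a ≠ b) {g : G} (hg : g • a = a) :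
    ∃ w ∈ UU (G := G) a, ∃ k ∈ twoStab a b, g = w * k := by
  have hgb : a ≠ g • b := fun e => hab (smul_left_cancel g (hg.trans e))
  obtain ⟨w, hw, hwb⟩ := h.UU_trans hab hgb
  refine ⟨w, hw, w⁻¹ * g, Subgroup.mem_inf.2 ⟨?_, ?_⟩, by group⟩
  · exact mul_mem (inv_mem (UU_le a hw)) hg
  · rw [mem_stabilizer_iff, mul_smul, inv_smul_eq_iff, hwb]

/-- Fixed points of elements of a two point stabiliser. -/
theorem fixed_iff_commute (h : Hyp G Ω) {a b : Ω} (hab : a ≠ b) {k w : G}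
    (hk : k ∈ twoStab a b) (hw : w ∈ UU a) : k • w • b = w • b ↔ k * w = w * k := by
  refine ⟨fun e => ?_, fun e => by rw [← mul_smul, e, mul_smul, hk.2]⟩
  have h1 : (k * w * k⁻¹) • b = w • b := by
    rw [mul_smul, mul_smul, inv_smul_eq_iff.2 hk.2.symm, e]
  have := h.UU_inj hab (conj_mem_UU hk.1 hw) hw h1
  rwa [mul_inv_eq_iff_eq_mul] at this

end Hyp

end Cfsg.Agent.H36.CyZ
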