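import Cfsg.Agent.H36.CyZ.Centralizer

/-!
Parity of permutations: a Sylow 2-subgroup centralises the involution.
-/

set_option autoImplicit false
set_option linter.unusedSectionVars false

namespace Cfsg.Agent.H36.CyZ

open MulAction
open scoped Pointwise

universe u v

variable {G : Type u} {Ω : Type v} [Group G] [MulAction G Ω] [Finite G] [Finite Ω]

variable (G Ω) in
/-- The parity of the permutation induced by a group element. -/
noncomputable def par : G →* ℤˣ :=
  letI := Fintype.ofFinite Ω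
  letI := Classical.decEq Ω
  Equiv.Perm.sign.comp (MulAction.toPermHom G Ω)

theorem units_odd_pow {x : ℤˣ} {m : ℕ} (hm : Odd m) (h : x ^ m = 1) : x = 1 := by
  rcases Int.units_eq_one_or x with rfl | rfl
  · rfl
  · rw [hm.neg_one_pow] at h; exact h

namespace Hyp

theorem par_semireg (h : Hyp G Ω) {c : G} (hord : orderOf c = 2 ^ ee Ω)
    (hfree : ∀ (y : Ω) (k : ℤ), c ^ k • y = y → c ^ k = 1) : par G Ω c = -1 := by
  classical
  obtain ⟨k, hk⟩ : ∃ k, ee Ω = k + 1 := ⟨ee Ω - 1, by have := h.one_le_ee; omega⟩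
  have := h.faithful
  let f : Ω → Ω := fun x => c • x
  unfold par
  let _ := Fintype.ofFinite Ω
  let _ := Classical.decEq Ω
  rw [MonoidHom.comp_apply]
  refine sign_semiregular _ k ?_ ?_ ?_
  · rw [orderOf_injective (MulAction.toPermHom G Ω) MulAction.toPerm_injective, hord, hk]
  · intro x hx
    rw [← map_pow] at hx
    have h1 := hfree x ((2 ^ k : ℕ) : ℤ) (by rw [zpow_natCast]; exact hx)
    rw [zpow_natCast, ← orderOf_dvd_iff_pow_eq_one, hord, hk,
      Nat.pow_dvd_pow_iff_le_right (by norm_num)] at h1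
    omega
  · rw [← hk, ← Nat.card_eq_fintype_card, ← Nat.not_even_iff_odd, even_iff_two_dvd]
    have := h.four
    exact Nat.not_dvd_ordCompl Nat.prime_two (by omega)

/-- Some element of a two point stabiliser is an odd permutation. -/
theorem exists_odd (h : Hyp G Ω) {a b : Ω} (hab : a ≠ b) :
    ∃ k ∈ twoStab (G := G) a b, par G Ω k = -1 := by
  by_contra hno
  push Not at hno
  have hH : ∀ k ∈ twoStab (G := G) a b, par G Ω k = 1 := fun k hk =>
    (Int.units_eq_one_or _).resolve_right (hno k hk)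
  have hodd : Odd (Nat.card (UU (G := G) a)) := by
    have := h.card_UU a
    have := h.even
    rw [Nat.odd_iff]
    rw [Nat.even_iff] at this
    omega
  have hstab : stabilizer G a ≤ (par G Ω).ker := by
    intro g hg
    obtain ⟨w, hw, k, hk, rfl⟩ := h.stab_decomp hab hg
    rw [MonoidHom.mem_ker, map_mul, hH k hk, mul_one]
    refine units_odd_pow hodd ?_
    rw [← map_pow, show w ^ Nat.card (UU (G := G) a) = 1 from
      congrArg Subtype.val (pow_card_eq_one' (x := (⟨w, hw⟩ : UU (G := G) a))), map_one]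
  obtain ⟨P, c, x, -, hord, hfree, -, -⟩ := h.sylow_data
  have hc := h.par_semireg hord hfree
  have hfix : ∀ g ∈ (par G Ω).ker, g • a = a := by
    intro g hg
    by_contra hne
    have htop := eq_top_of_stabilizer_le h.two hab hstab hg hne
    have : par G Ω c = 1 := MonoidHom.mem_ker.1 (htop ▸ Subgroup.mem_top c)
    rw [hc] at this
    exact absurd this (by decide)
  have := h.faithful
  obtain ⟨k, hk2, hk1⟩ : ∃ k ∈ twoStab (G := G) a b, k ≠ 1 := by
    by_contra hall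
    push Not at hall
    have h2 := h.even_twoStab hab
    have : twoStab (G := G) a b = ⊥ := (Subgroup.eq_bot_iff_forall _).2 hall
    rw [this, Subgroup.card_bot] at h2
    omega
  have hne : (par G Ω).ker ≠ ⊥ := fun e => hk1 (Subgroup.mem_bot.1 (e ▸ hstab hk2.1))
  obtain ⟨n, hn, hnb⟩ := normal_trans h.two (par G Ω).ker hne a b
  exact hab ((hfix n hn).symm.trans hnb)

end Hyp

namespace Bad

variable {a b : Ω} {t : G}

local notation "𝔽" => fixSub (Ω := Ω) (Subgroup.zpowers t)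
local notation "𝔑" => Subgroup.normalizer ((Subgroup.zpowers t : Subgroup G) : Set G)

/-- The parity on the fixed point set. -/
noncomputable def parF (_B : Bad a b t) :
    Subgroup.normalizer ((Subgroup.zpowers t : Subgroup G) : Set G) →* ℤˣ :=
  letI := Fintype.ofFinite (fixSub (Ω := Ω) (Subgroup.zpowers t))
  letI := Classical.decEq (fixSub (Ω := Ω) (Subgroup.zpowers t))
  Equiv.Perm.sign.comp (imgHom (Ω := Ω) (Subgroup.zpowers t))

theorem parity_eq (B : Bad a b t) {g : G} (hg : g * t = t * g) :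
    par G Ω g = B.parF ⟨g, B.mem_N.2 hg⟩ := by
  classical
  have := B.hyp.cyclic_twoStab B.ne
  obtain ⟨⟨g0, hg0⟩, hgen⟩ := IsCyclic.exists_generator (α := twoStab (G := G) a b)
  have hgen' : ∀ k ∈ twoStab (G := G) a b, ∃ i : ℤ, g0 ^ i = k := fun k hk => by
    obtain ⟨i, hi⟩ := hgen ⟨k, hk⟩
    exact ⟨i, congrArg Subtype.val hi⟩
  obtain ⟨c, hc, hca, hcb⟩ := B.exists_third
  obtain ⟨k0, hk0, hk0x⟩ := B.exists_invol
  have hg0c : ∀ x : Ω, t • x = x → x ≠ a → x ≠ b → g0 • x ≠ x := by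
    intro x hx hxa hxb e
    obtain ⟨i, rfl⟩ := hgen' k0 hk0
    exact (hk0x x hx hxa hxb).1 (zpow_mem (show g0 ∈ stabilizer G x from e) i)
  have hτ : B.parF ⟨g0, B.two_mem_N hg0⟩ = -1 := by
    unfold parF
    let _ := Fintype.ofFinite 𝔽
    let _ := Classical.decEq 𝔽
    rw [MonoidHom.comp_apply]
    set π := imgHom (Ω := Ω) (Subgroup.zpowers t) ⟨g0, B.two_mem_N hg0⟩
    have hπ : ∀ x : 𝔽, π x ≠ x ↔ (x ≠ B.pa ∧ x ≠ B.pb) := by
      intro x
      constructor
      · intro hx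
        refine ⟨?_, ?_⟩ <;> rintro rfl <;> apply hx <;> apply Subtype.ext
        · exact hg0.1
        · exact hg0.2
      · rintro ⟨hxa, hxb⟩ e
        exact hg0c x (B.mem_F.1 x.2) (fun h => hxa (Subtype.ext h)) (fun h => hxb (Subtype.ext h))
          (congrArg Subtype.val e)
    have hcyc : π.IsCycle := by
      refine ⟨⟨c, B.mem_F.2 hc⟩, (hπ _).2 ⟨fun e => hca (congrArg Subtype.val e),
        fun e => hcb (congrArg Subtype.val e)⟩, fun y hy => ?_⟩
      obtain ⟨hya, hyb⟩ := (hπ y).1 hy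
      obtain ⟨k, hk, hkc⟩ := B.trans_third hc hca hcb (B.mem_F.1 y.2)
        (fun h => hya (Subtype.ext h)) (fun h => hyb (Subtype.ext h))
      obtain ⟨i, rfl⟩ := hgen' k hk
      refine ⟨i, ?_⟩
      rw [← map_zpow]
      exact Subtype.ext hkc
    have hsupp : π.support = Finset.univ \ {B.pa, B.pb} := by
      ext x
      rw [Equiv.Perm.mem_support, hπ]
      simp
    rw [hcyc.sign, hsupp, Finset.card_univ_sdiff, Finset.card_pair B.pab]
    have h1 : Even (Nat.card 𝔽) := B.img.even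
    have h4 : 4 ≤ Nat.card 𝔽 := B.four
    rw [Nat.card_eq_fintype_card] at h1 h4
    rw [Even.neg_one_pow (by rw [Nat.even_sub (by omega)]; simp [h1])]
  have hσ : par G Ω g0 = -1 := by
    obtain ⟨k, hk, hσk⟩ := B.hyp.exists_odd B.ne
    obtain ⟨i, rfl⟩ := hgen' k hk
    rw [map_zpow] at hσk
    refine (Int.units_eq_one_or _).resolve_left fun h => ?_
    rw [h, one_zpow] at hσk
    exact absurd hσk (by decide)
  refine B.gen (fun g => ∀ hg : g ∈ Subgroup.normalizer ((Subgroup.zpowers t : Subgroup G) : Set G),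
    par G Ω g = B.parF ⟨g, hg⟩) ?_ ?_ ?_ ?_ g hg _
  · intro g h hgt hht e1 e2 hm
    rw [map_mul, e1 (B.mem_N.2 hgt), e2 (B.mem_N.2 hht), ← map_mul]
    rfl
  · intro g hgt e1 hm
    rw [map_inv, e1 (B.mem_N.2 hgt), ← map_inv]
    rfl
  · intro g h hgt hht e2 hm
    have h1 : B.parF ⟨g * h * g⁻¹, hm⟩ = B.parF (⟨g, B.mem_N.2 hgt⟩ * ⟨h, B.mem_N.2 hht⟩ *
        ⟨g, B.mem_N.2 hgt⟩⁻¹) := rfl
    rw [h1, map_mul, map_mul, map_mul, map_mul, map_inv, map_inv, ← e2 (B.mem_N.2 hht),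
      mul_inv_cancel_comm, mul_inv_cancel_comm]
  · intro k hk hm
    obtain ⟨i, rfl⟩ := hgen' k hk
    have h1 : B.parF ⟨g0 ^ i, hm⟩ = B.parF (⟨g0, B.two_mem_N hg0⟩ ^ i) :=
      congrArg B.parF (Subtype.ext (by rw [Subgroup.coe_zpow]))
    rw [h1, map_zpow, map_zpow, hσ, hτ]

/-- A Sylow 2-subgroup centralises `t`, and the number of fixed points has the 2-part of the
degree. -/
theorem exists_sylow (B : Bad a b t) : ∃ (P : Sylow 2 G) (B2 : Subgroup G) (a₀ : G),
    B2 ≤ twoStab a b ∧ Nat.card B2 = 2 ^ hh G Ω ∧ B2 ≤ P ∧ a₀ ∈ P ∧ orderOf a₀ = 2 ^ ee Ω ∧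
    (∀ (y : Ω) (k : ℤ), a₀ ^ k • y = y → a₀ ^ k = 1) ∧
    (∀ g ∈ P, ∃ k : ℤ, (a₀ ^ k)⁻¹ * g ∈ B2) ∧
    (∀ g ∈ P, g * t = t * g) ∧
    (Nat.card (fixSub (Ω := Ω) (Subgroup.zpowers t))).factorization 2 = ee Ω := by
  classical
  have : Fact (Nat.Prime 2) := ⟨Nat.prime_two⟩
  obtain ⟨B2, hB, hBc⟩ := B.hyp.exists_full B.ne
  obtain ⟨P, a₀, j, T, hBP, ha, hord, hj, hfree, hprod, hmem, hT⟩ :=
    B.hyp.local_sylow B.ne B.le_two hB hBc
  set c : 𝔑 := ⟨a₀ ^ 2 ^ j, hmem⟩
  have hcfree : ∀ (y : 𝔽) (k : ℤ), c ^ k • y = y → c ^ k = 1 := by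
    intro y k hk
    have hk' : (a₀ ^ 2 ^ j) ^ k • (y : Ω) = y := congrArg Subtype.val hk
    rw [← zpow_natCast, ← zpow_mul] at hk'
    have h1 := hfree _ _ hk'
    rw [zpow_mul, zpow_natCast] at h1
    exact Subtype.ext ((Subgroup.coe_zpow _ _ _).trans h1)
  have hordc : orderOf c = 2 ^ (ee Ω - j) := by
    rw [← Subgroup.orderOf_coe]
    change orderOf (a₀ ^ 2 ^ j) = _
    rw [orderOf_pow' _ (by positivity), hord, Nat.gcd_eq_right (pow_dvd_pow 2 hj),
      Nat.pow_div hj two_pos]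
  -- the two-part of the number of fixed points
  have htr : IsPretransitive 𝔑 𝔽 := by
    refine ⟨fun x y => ?_⟩
    by_cases hxy : x = y
    · exact ⟨1, by rw [one_smul, hxy]⟩
    obtain ⟨g, hg⟩ : ∃ g : (imgHom (Ω := Ω) (Subgroup.zpowers t)).range, g • x = y :=
      have := isTrans B.img.two
      MulAction.exists_smul_eq _ x y
    obtain ⟨g', rfl⟩ := (imgHom (Ω := Ω) (Subgroup.zpowers t)).rangeRestrict_surjective g
    exact ⟨g', hg⟩
  have hF0 : Nat.card 𝔽 ≠ 0 := by have : 4 ≤ Nat.card 𝔽 := B.four; omega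
  have hNcard : Nat.card (stabilizer 𝔑 B.pa) * Nat.card 𝔽 = Nat.card 𝔑 := by
    rw [← index_stabilizer_of_transitive 𝔑 B.pa, Subgroup.card_mul_index]
  have hTp : Nat.card T = 2 ^ (Nat.card 𝔑).factorization 2 := T.card_eq_multiplicity
  have horb : orbit (T : Subgroup 𝔑) B.pa = orbit (Subgroup.zpowers c) B.pa := by
    refine Set.Subset.antisymm ?_ ?_
    · rintro _ ⟨⟨g, hg⟩, rfl⟩
      obtain ⟨k, hk⟩ := (hT g).1 hg
      refine ⟨⟨c ^ k, k, rfl⟩, Subtype.ext ?_⟩
      have h1 : (((a₀ ^ 2 ^ j) ^ k)⁻¹ * (g : G)) • a = a := (hB hk).1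
      rw [mul_smul, inv_smul_eq_iff] at h1
      exact h1.symm
    · rintro _ ⟨⟨_, k, rfl⟩, rfl⟩
      refine ⟨⟨c ^ k, (hT _).2 ⟨k, ?_⟩⟩, rfl⟩
      rw [Subgroup.coe_zpow, inv_mul_cancel]
      exact one_mem _
  have hidx := index_stabilizer (T : Subgroup 𝔑) B.pa
  rw [horb, zpowers_free_orbit B.pa hcfree, hordc] at hidx
  have hmul := (stabilizer (T : Subgroup 𝔑) B.pa).card_mul_index
  obtain ⟨s, hs⟩ := IsPGroup.iff_card.mp (T.isPGroup'.to_subgroup (stabilizer (T : Subgroup 𝔑) B.pa))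
  have hsle : s ≤ (Nat.card (stabilizer 𝔑 B.pa)).factorization 2 := by
    have hinj : Function.Injective (fun g : stabilizer (T : Subgroup 𝔑) B.pa =>
        (⟨(g : T).1, g.2⟩ : stabilizer 𝔑 B.pa)) := fun g g' e =>
      Subtype.ext (Subtype.ext (congrArg (fun z : stabilizer 𝔑 B.pa => (z : 𝔑)) e))
    let f : stabilizer (T : Subgroup 𝔑) B.pa →* stabilizer 𝔑 B.pa :=
      { toFun := fun g => ⟨(g : T).1, g.2⟩, map_one' := rfl, map_mul' := fun _ _ => rfl }
    have hd := Subgroup.card_dvd_of_injective f hinj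
    rw [hs, Nat.Prime.pow_dvd_iff_le_factorization Nat.prime_two Nat.card_pos.ne'] at hd
    exact hd
  rw [hidx, hs, hTp, ← hNcard, Nat.factorization_mul Nat.card_pos.ne' hF0, Finsupp.add_apply,
    ← pow_add] at hmul
  have hexp := Nat.pow_right_injective le_rfl hmul
  have hdvd := orderOf_dvd_card hcfree
  rw [hordc, Nat.Prime.pow_dvd_iff_le_factorization Nat.prime_two hF0] at hdvd
  have hvi : (Nat.card 𝔽).factorization 2 = ee Ω - j := by omega
  have hpos : 1 ≤ (Nat.card 𝔽).factorization 2 :=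
    Nat.Prime.factorization_pos_of_dvd Nat.prime_two hF0 B.img.even.two_dvd
  -- parities of `c`
  have hτ : B.parF c = -1 := by
    obtain ⟨k, hk⟩ : ∃ k, ee Ω - j = k + 1 := ⟨ee Ω - j - 1, by omega⟩
    unfold parF
    let _ := Fintype.ofFinite 𝔽
    let _ := Classical.decEq 𝔽
    rw [MonoidHom.comp_apply]
    refine sign_semiregular _ k ?_ ?_ ?_
    · rw [← hk, ← hordc]
      refine orderOf_eq_orderOf_iff.2 fun n => ?_
      rw [← map_pow]
      refine ⟨fun hn => ?_, fun hn => by rw [hn, map_one]⟩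
      have := hcfree B.pa n
      rw [zpow_natCast] at this
      refine this ?_
      exact (imgHom_apply _ _ _).symm.trans (by rw [hn]; rfl)
    · intro x hx
      rw [← map_pow] at hx
      have h1 := hcfree x ((2 ^ k : ℕ) : ℤ) (by rw [zpow_natCast]; exact hx)
      rw [zpow_natCast, ← orderOf_dvd_iff_pow_eq_one, hordc, hk,
        Nat.pow_dvd_pow_iff_le_right (by norm_num)] at h1
      omega
    · rw [← hk, ← hvi, ← Nat.card_eq_fintype_card, ← Nat.not_even_iff_odd, even_iff_two_dvd]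
      exact Nat.not_dvd_ordCompl Nat.prime_two hF0
  have hσ := B.parity_eq (g := a₀ ^ 2 ^ j) (B.mem_N.1 hmem)
  rw [hτ, map_pow, B.hyp.par_semireg hord hfree] at hσ
  have hj0 : j = 0 := by
    by_contra hj0
    rw [Even.neg_one_pow (Nat.even_pow.2 ⟨even_two, hj0⟩)] at hσ
    exact absurd hσ (by decide)
  subst hj0
  refine ⟨P, B2, a₀, hB, hBc, hBP, ha, hord, hfree, hprod, fun g hg => ?_, by omega⟩
  obtain ⟨k, hk⟩ := hprod g hg
  rw [pow_zero, pow_one] at hmem
  have := mul_mem (zpow_mem hmem k) (B.two_mem_N (hB hk))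
  rw [mul_inv_cancel_left] at this
  exact B.mem_N.1 this

end Bad

end Cfsg.Agent.H36.CyZ
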