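import Cfsg.Agent.H36.CyZ.Shape

/-!
Reduction of a product of a cyclic group and a Z-group to the doubly transitive core.
-/

set_option autoImplicit false
set_option linter.unusedSectionVars false

namespace Cfsg.Agent.H36.CyZ

open MulAction

universe u

variable {G : Type u} [Group G] [Finite G]

theorem normalCore_eq_bot (hR : NoRadical G) {B : Subgroup G} (hB : IsZGroup B) :
    B.normalCore = ⊥ := by
  refine hR _ inferInstance ?_
  have : Group.IsSolvable B := inferInstance
  exact Group.isSolvable_of_isSolvable_injective (Subgroup.inclusion_injective B.normalCore_le)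

theorem inf_eq_bot (hR : NoRadical G) {A B : Subgroup G} (hA : IsCyclic A) (hB : IsZGroup B)
    (hAB : ∀ g : G, ∃ a ∈ A, ∃ b ∈ B, g = a * b) {d : G} (hdA : d ∈ A) (hdB : d ∈ B) : d = 1 := by
  have hmem : d ∈ B.normalCore := by
    intro g
    obtain ⟨a, ha, b, hb, e⟩ := hAB g⁻¹
    have hg : g = b⁻¹ * a⁻¹ := by rw [← inv_inj, e]; group
    have hcomm : a * d = d * a :=
      have := hA.isMulCommutative
      congrArg Subtype.val (mul_comm' (⟨a, ha⟩ : A) ⟨d, hdA⟩)
    have : g * d * g⁻¹ = b⁻¹ * d * b := by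
      rw [hg, mul_inv_rev, inv_inv, inv_inv]
      calc b⁻¹ * a⁻¹ * d * (a * b) = b⁻¹ * a⁻¹ * (d * a) * b := by simp only [mul_assoc]
        _ = b⁻¹ * d * b := by rw [← hcomm]; group
    rw [this]
    exact mul_mem (mul_mem (inv_mem hb) hdB) hb
  rw [normalCore_eq_bot hR hB, Subgroup.mem_bot] at hmem
  exact hmem

theorem quotient_trans {A B : Subgroup G} (hAB : ∀ g : G, ∃ a ∈ A, ∃ b ∈ B, g = a * b)
    (x y : G ⧸ B) : ∃ g ∈ A, g • x = y := by
  have key : ∀ z : G ⧸ B, ∃ a ∈ A, a • ((1 : G) : G ⧸ B) = z := by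
    intro z
    induction z using QuotientGroup.induction_on with
    | _ g =>
      obtain ⟨a, ha, b, hb, rfl⟩ := hAB g
      refine ⟨a, ha, ?_⟩
      change ((a * 1 : G) : G ⧸ B) = _
      rw [QuotientGroup.eq, mul_one, inv_mul_cancel_left]
      exact hb
  obtain ⟨a, ha, rfl⟩ := key x
  obtain ⟨c, hc, rfl⟩ := key y
  exact ⟨c * a⁻¹, mul_mem hc (inv_mem ha), by rw [mul_smul, inv_smul_smul]⟩

theorem quotient_free (hR : NoRadical G) {A B : Subgroup G} (hA : IsCyclic A) (hB : IsZGroup B)
    (hAB : ∀ g : G, ∃ a ∈ A, ∃ b ∈ B, g = a * b) :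
    ∀ g ∈ A, ∀ x : G ⧸ B, g • x = x → g = 1 := by
  intro g hg x hx
  obtain ⟨c, hc, rfl⟩ := quotient_trans hAB ((1 : G) : G ⧸ B) x
  have hgc : g * c = c * g :=
    have := hA.isMulCommutative
    congrArg Subtype.val (mul_comm' (⟨g, hg⟩ : A) ⟨c, hc⟩)
  rw [← mul_smul, hgc, mul_smul] at hx
  have h1 : g • ((1 : G) : G ⧸ B) = ((1 : G) : G ⧸ B) := smul_left_cancel c hx
  refine inf_eq_bot hR hA hB hAB hg ?_
  have h2 : g ∈ stabilizer G ((1 : G) : G ⧸ B) := h1
  rwa [MulAction.stabilizer_quotient] at h2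

theorem stabilizer_zgroup {B : Subgroup G} (hB : IsZGroup B) (x : G ⧸ B) :
    IsZGroup (stabilizer G x) := by
  obtain ⟨g, hg⟩ := MulAction.exists_smul_eq G x ((1 : G) : G ⧸ B)
  let f : stabilizer G x →* B :=
    ((MulAut.conj g).toMonoidHom.comp (stabilizer G x).subtype).codRestrict B fun s => by
      have : g * (s : G) * g⁻¹ ∈ stabilizer G ((1 : G) : G ⧸ B) := by
        rw [mem_stabilizer_iff, mul_smul, mul_smul, ← hg, inv_smul_smul,
          show (s : G) • x = x from s.2]
      rwa [MulAction.stabilizer_quotient] at this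
  exact IsZGroup.of_injective (f := f) fun s t e =>
    Subtype.ext ((MulAut.conj g).injective (congrArg (fun z : B => (z : G)) e))

/-- A Sylow 2-subgroup generated by two elements. -/
theorem exists_two_gen (hR : NoRadical G) (hF : Factored G) :
    ∃ (P : Sylow 2 G) (a b : G), a ∈ P ∧ b ∈ P ∧ (P : Subgroup G) ≤ Subgroup.closure {a, b} := by
  have : Fact (Nat.Prime 2) := ⟨Nat.prime_two⟩
  obtain ⟨A, B, hA, hB, hAB⟩ := hF
  obtain ⟨P, a, x, haP, -, hprod⟩ := sylow_of_regular A (quotient_trans hAB)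
    (quotient_free hR hA hB hAB) ⟨((1 : G) : G ⧸ B)⟩
  have := stabilizer_zgroup hB x
  have hcyc : IsCyclic ((P : Subgroup G) ⊓ stabilizer G x : Subgroup G) :=
    isCyclic_of_le_zgroup (B := stabilizer G x) inf_le_right (P.isPGroup'.to_le inf_le_left)
  obtain ⟨⟨b, hb⟩, hgen⟩ := hcyc.exists_generator
  refine ⟨P, a, b, haP, (Subgroup.mem_inf.1 hb).1, fun g hg => ?_⟩
  obtain ⟨k, hk⟩ := hprod g hg
  have hmem : (a ^ k)⁻¹ * g ∈ (P : Subgroup G) ⊓ stabilizer G x :=
    Subgroup.mem_inf.2 ⟨mul_mem (inv_mem (zpow_mem haP k)) hg, by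
      rw [mem_stabilizer_iff, mul_smul, hk, inv_smul_smul]⟩
  obtain ⟨l, hl⟩ := hgen ⟨_, hmem⟩
  have hl' : b ^ l = (a ^ k)⁻¹ * g := congrArg Subtype.val hl
  rw [show g = a ^ k * b ^ l by rw [hl', mul_inv_cancel_left]]
  exact mul_mem (zpow_mem (Subgroup.subset_closure (show a ∈ ({a, b} : Set G) from Or.inl rfl)) k)
    (zpow_mem (Subgroup.subset_closure (show b ∈ ({a, b} : Set G) from Or.inr rfl)) l)

/-- In a 2-generated 2-group, elements killed by a map with non-cyclic image lie in every maximal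
subgroup. -/
theorem mem_coatom {P : Type u} [Group P] [Finite P] (hP : IsPGroup 2 P) {a b : P}
    (hgen : Subgroup.closure ({a, b} : Set P) = ⊤) {K : Type u} [Group K] (φ : P →* K)
    (hφ : ¬ IsCyclic φ.range) {x : P} (hx : φ x = 1) {M : Subgroup P} (hM : IsCoatom M) :
    x ∈ M := by
  have : Fact (Nat.Prime 2) := ⟨Nat.prime_two⟩
  have := hP.isNilpotent
  have hidx : ∀ M : Subgroup P, IsCoatom M → M.index = 2 := by
    intro M hM
    have hn : M.Normal :=
      Subgroup.NormalizerCondition.normal_of_coatom M Group.normalizerCondition_of_isNilpotent hM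
    have : IsSimpleGroup (P ⧸ M) := by
      have hnt : Nontrivial (P ⧸ M) := QuotientGroup.nontrivial_iff.2 hM.1
      refine { exists_pair_ne := hnt.exists_pair_ne, eq_bot_or_eq_top_of_normal := fun H _ => ?_ }
      rcases hM.le_iff.1 (show M ≤ H.comap (QuotientGroup.mk' M) from fun m hm => by
        rw [Subgroup.mem_comap, QuotientGroup.mk'_apply, (QuotientGroup.eq_one_iff m).2 hm]
        exact one_mem H) with h | h
      · right
        rw [eq_top_iff]
        intro q _
        obtain ⟨g, rfl⟩ := QuotientGroup.mk'_surjective M q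
        exact h ▸ Subgroup.mem_top g |> Subgroup.mem_comap.1
      · left
        rw [eq_bot_iff]
        intro q hq
        obtain ⟨g, rfl⟩ := QuotientGroup.mk'_surjective M q
        have hg : g ∈ H.comap (QuotientGroup.mk' M) := hq
        rw [h] at hg
        exact Subgroup.mem_bot.2 ((QuotientGroup.eq_one_iff g).2 hg)
    have hq : IsPGroup 2 (P ⧸ M) := hP.to_quotient M
    have : Group.IsNilpotent (P ⧸ M) := hq.isNilpotent
    have hcomm : ∀ a b : P ⧸ M, a * b = b * a :=
      IsSimpleGroup.comm_iff_isSolvable.2 inferInstance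
    let _ : CommGroup (P ⧸ M) := { (inferInstance : Group (P ⧸ M)) with mul_comm := hcomm }
    have hprime := IsSimpleGroup.prime_card (α := P ⧸ M)
    obtain ⟨k, hk⟩ := IsPGroup.iff_card.1 hq
    rw [Subgroup.index_eq_card, hk]
    rw [hk] at hprime
    rcases Nat.lt_or_ge k 2 with h | h
    · rcases Nat.eq_zero_or_pos k with rfl | hk0
      · exact absurd hprime Nat.not_prime_one
      · rw [show k = 1 by omega, pow_one]
    · exfalso
      exact Nat.Prime.not_prime_pow h hprime
  -- a generator inside `M`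
  obtain ⟨z, y, hzy, hzM⟩ : ∃ z y : P, Subgroup.closure ({z, y} : Set P) = ⊤ ∧ z ∈ M := by
    by_cases ha : a ∈ M
    · exact ⟨a, b, hgen, ha⟩
    by_cases hb : b ∈ M
    · exact ⟨b, a, by rw [Set.pair_comm]; exact hgen, hb⟩
    refine ⟨a * b, b, ?_, ?_⟩
    · rw [eq_top_iff, ← hgen, Subgroup.closure_le]
      rintro g (hg | hg) <;> rw [hg]
      · have h1 : a * b * b⁻¹ ∈ Subgroup.closure ({a * b, b} : Set P) :=
          mul_mem (Subgroup.subset_closure (Or.inl rfl))
            (inv_mem (Subgroup.subset_closure (Or.inr rfl)))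
        rwa [mul_inv_cancel_right] at h1
      · exact Subgroup.subset_closure (Or.inr rfl)
    · rw [Subgroup.mul_mem_iff_of_index_two (hidx M hM)]
      simp [ha, hb]
  by_contra hxM
  have htop : Subgroup.closure ({x, z} : Set P) = ⊤ := by
    rcases eq_top_or_exists_le_coatom (Subgroup.closure ({x, z} : Set P)) with h | ⟨M₁, hM₁, hle⟩
    · exact h
    exfalso
    have hxM₁ : x ∈ M₁ := hle (Subgroup.subset_closure (Or.inl rfl))
    have hzM₁ : z ∈ M₁ := hle (Subgroup.subset_closure (Or.inr rfl))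
    have hy : ∀ N : Subgroup P, IsCoatom N → z ∈ N → y ∉ N := fun N hN hzN hyN => hN.1 <| by
      rw [eq_top_iff, ← hzy, Subgroup.closure_le]
      rintro g (rfl | rfl)
      · exact hzN
      · exact hyN
    apply hxM
    have hiff : ∀ g : P, g ∈ M ↔ g ∈ M₁ := by
      intro g
      have hg : g ∈ Subgroup.closure ({z, y} : Set P) := hzy ▸ Subgroup.mem_top g
      induction hg using Subgroup.closure_induction with
      | mem g hg =>
        rcases hg with rfl | rfl
        · exact iff_of_true hzM hzM₁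
        · exact iff_of_false (hy M hM hzM) (hy M₁ hM₁ hzM₁)
      | one => exact iff_of_true (one_mem _) (one_mem _)
      | mul g h _ _ hg hh =>
        rw [Subgroup.mul_mem_iff_of_index_two (hidx M hM),
          Subgroup.mul_mem_iff_of_index_two (hidx M₁ hM₁)]
        exact iff_congr hg hh
      | inv g _ hg => simpa only [inv_mem_iff] using hg
    exact (hiff x).2 hxM₁
  apply hφ
  refine Subgroup.isCyclic_of_le (H' := Subgroup.zpowers (φ z)) ?_
  rw [MonoidHom.range_eq_map, ← htop, MonoidHom.map_closure, Subgroup.closure_le]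
  rintro _ ⟨g, (rfl | rfl), rfl⟩
  · rw [hx]; exact one_mem _
  · exact Subgroup.mem_zpowers _

variable (G) in
/-- The induction hypothesis. -/
def IH : Prop :=
  ∀ (K : Type u) [Group K] [Finite K], Nat.card K < Nat.card G → ¬ Group.IsSolvable K →
    Factored K → NoRadical K → Model K

/-- Apply the induction hypothesis to a quotient. -/
theorem exists_model_quotient (hih : IH G) (hF : Factored G) (N : Subgroup G) [N.Normal]
    (hN : N ≠ ⊥) (hns : ¬ Group.IsSolvable (G ⧸ N)) :
    ∃ (Q : Type u) (_ : Group Q) (_ : Finite Q) (ψ : G →* Q), Function.Surjective ψ ∧ N ≤ ψ.ker ∧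
      Model Q ∧ ∀ M : Subgroup G, M ⊓ N = ⊥ → M ≤ ψ.ker → Group.IsSolvable M := by
  obtain ⟨R, hRn, hRs, hRmax⟩ := exists_radical (G := G ⧸ N)
  let ψ := (QuotientGroup.mk' R).comp (QuotientGroup.mk' N)
  have hψ : Function.Surjective ψ :=
    (QuotientGroup.mk'_surjective R).comp (QuotientGroup.mk'_surjective N)
  have hns' : ¬ Group.IsSolvable ((G ⧸ N) ⧸ R) := fun hs =>
    hns (solvable_of_ker (QuotientGroup.mk' R) (by rwa [QuotientGroup.ker_mk']) inferInstance)
  refine ⟨(G ⧸ N) ⧸ R, inferInstance, inferInstance, ψ, hψ, fun g hg => ?_, ?_, ?_⟩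
  · rw [MonoidHom.mem_ker]
    change QuotientGroup.mk' R (QuotientGroup.mk' N g) = 1
    rw [show QuotientGroup.mk' N g = 1 from (QuotientGroup.eq_one_iff g).2 hg, map_one]
  · refine hih _ ?_ hns' (hF.map ψ hψ) (noRadical_quotient R hRs hRmax)
    calc Nat.card ((G ⧸ N) ⧸ R) ≤ Nat.card (G ⧸ N) :=
          Nat.card_le_card_of_surjective _ (QuotientGroup.mk'_surjective R)
      _ < Nat.card G := by
          rw [← Subgroup.index_eq_card, ← N.card_mul_index]
          have h1 : 1 < Nat.card N := by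
            rw [Finite.one_lt_card_iff_nontrivial, Subgroup.nontrivial_iff_ne_bot]
            exact hN
          exact lt_mul_left (Nat.pos_of_ne_zero Subgroup.index_ne_zero_of_finite) h1
  · intro M hMN hMk
    let f : M →* R := ((QuotientGroup.mk' N).comp M.subtype).codRestrict R fun m =>
      (QuotientGroup.eq_one_iff _).1 (hMk m.2)
    refine Group.isSolvable_of_isSolvable_injective (f := f) fun m m' e => ?_
    have e' : QuotientGroup.mk' N (m : G) = QuotientGroup.mk' N (m' : G) :=
      congrArg (fun z : R => (z : G ⧸ N)) e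
    have h1 : (m : G)⁻¹ * m' ∈ M ⊓ N :=
      Subgroup.mem_inf.2 ⟨mul_mem (inv_mem m.2) m'.2, QuotientGroup.eq.1 e'⟩
    rw [hMN, Subgroup.mem_bot, inv_mul_eq_one] at h1
    exact Subtype.ext h1

/-- There is only one minimal normal subgroup. -/
theorem unique_minimal (hih : IH G) (hR : NoRadical G) (hF : Factored G) (N₁ N₂ : Subgroup G)
    [N₁.Normal] [N₂.Normal] (h1 : N₁ ≠ ⊥) (h2 : N₂ ≠ ⊥)
    (m1 : ∀ M : Subgroup G, M.Normal → M ≤ N₁ → M = ⊥ ∨ M = N₁)
    (m2 : ∀ M : Subgroup G, M.Normal → M ≤ N₂ → M = ⊥ ∨ M = N₂) : N₁ = N₂ := by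
  classical
  have : Fact (Nat.Prime 2) := ⟨Nat.prime_two⟩
  by_contra hne
  have hdis : N₁ ⊓ N₂ = ⊥ := by
    rcases m1 (N₁ ⊓ N₂) inferInstance inf_le_left with h | h
    · exact h
    · rcases m2 N₁ inferInstance (h ▸ inf_le_right) with h' | h'
      · exact absurd h' h1
      · exact absurd h' hne
  have s1 : ¬ Group.IsSolvable N₁ := fun hs => h1 (hR _ inferInstance hs)
  have s2 : ¬ Group.IsSolvable N₂ := fun hs => h2 (hR _ inferInstance hs)
  have hquot : ∀ (M N : Subgroup G) [N.Normal], M ⊓ N = ⊥ → ¬ Group.IsSolvable M →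
      ¬ Group.IsSolvable (G ⧸ N) := by
    intro M N _ hMN hMs hs
    apply hMs
    refine Group.isSolvable_of_isSolvable_injective
      (f := (QuotientGroup.mk' N).comp M.subtype) fun m m' e => ?_
    have h : (m : G)⁻¹ * m' ∈ M ⊓ N :=
      Subgroup.mem_inf.2 ⟨mul_mem (inv_mem m.2) m'.2, QuotientGroup.eq.1 e⟩
    rw [hMN, Subgroup.mem_bot, inv_mul_eq_one] at h
    exact Subtype.ext h
  obtain ⟨Q₁, _, _, ψ, hψ, hψ1, ⟨Ω₁, _, hΩ₁, hyp₁⟩, hψs⟩ :=
    exists_model_quotient hih hF N₁ h1 (hquot N₂ N₁ (by rwa [inf_comm]) s2)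
  obtain ⟨Q₂, _, _, φ, hφ, hφ2, ⟨Ω₂, _, hΩ₂, hyp₂⟩, -⟩ :=
    exists_model_quotient hih hF N₂ h2 (hquot N₁ N₂ hdis s1)
  have hinj : ∀ g ∈ N₂, ψ g = 1 → g = 1 := by
    rcases m2 (N₂ ⊓ ψ.ker) inferInstance inf_le_left with h | h
    · intro g hg hg'
      exact Subgroup.mem_bot.1 (h ▸ Subgroup.mem_inf.2 ⟨hg, hg'⟩)
    · exact absurd (hψs N₂ (by rwa [inf_comm]) (h ▸ inf_le_right)) s2
  obtain ⟨P, a, b, ha, hb, hgen⟩ := exists_two_gen hR hF
  have hgenP : Subgroup.closure ({⟨a, ha⟩, ⟨b, hb⟩} : Set (P : Subgroup G)) = ⊤ := by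
    rw [eq_top_iff]
    intro g _
    have hg := hgen g.2
    have hmap : (Subgroup.closure ({⟨a, ha⟩, ⟨b, hb⟩} : Set (P : Subgroup G))).map
        (P : Subgroup G).subtype = Subgroup.closure {a, b} := by
      rw [MonoidHom.map_closure, Set.image_pair]
      rfl
    rw [← hmap, Subgroup.mem_map] at hg
    obtain ⟨g', hg', e⟩ := hg
    rwa [← Subtype.ext e]
  -- images of the Sylow subgroup
  let ψP : (P : Subgroup G) →* Q₁ := ψ.comp (P : Subgroup G).subtype
  let φP : (P : Subgroup G) →* Q₂ := φ.comp (P : Subgroup G).subtype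
  have hncψ : ¬ IsCyclic ψP.range := by
    intro hc
    refine not_cyclic_sylow hyp₁ (P.mapSurjective hψ) ?_
    have e : ψP.range = ((P : Subgroup G).map ψ) := by
      rw [MonoidHom.range_comp, Subgroup.range_subtype]
    rw [e] at hc
    exact hc
  have hncφ : ¬ IsCyclic φP.range := by
    intro hc
    refine not_cyclic_sylow hyp₂ (P.mapSurjective hφ) ?_
    have e : φP.range = ((P : Subgroup G).map φ) := by
      rw [MonoidHom.range_comp, Subgroup.range_subtype]
    rw [e] at hc
    exact hc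
  have hD : ∀ x : (P : Subgroup G), (x : G) ∈ N₂ → ∀ M : Subgroup (P : Subgroup G),
      IsCoatom M → x ∈ M := fun x hx M hM =>
    mem_coatom P.isPGroup' hgenP φP hncφ (hφ2 hx) hM
  -- the image of `N₂` has cyclic quotient
  have hN2n : (N₂.map ψ).Normal := Subgroup.Normal.map inferInstance ψ hψ
  have hns2 : ¬ Group.IsSolvable (N₂.map ψ) := by
    intro hs
    apply s2
    refine Group.isSolvable_of_isSolvable_injective (f := ψ.subgroupMap N₂) fun m m' e => ?_
    have e' : ψ (m : G) = ψ (m' : G) := congrArg Subtype.val e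
    have := hinj _ (mul_mem (inv_mem m.2) m'.2) (by rw [map_mul, map_inv, e', inv_mul_cancel])
    exact Subtype.ext (inv_mul_eq_one.1 this)
  obtain ⟨p, hp, hpn⟩ := hyp₁.conclusion.exists_prime
  obtain ⟨x₁⟩ := hyp₁.nonempty
  obtain ⟨-, hcyc⟩ := normal_facts hyp₁ hp hpn x₁ (N₂.map ψ) hns2
  let χ : (P : Subgroup G) →* Q₁ ⧸ N₂.map ψ := (QuotientGroup.mk' _).comp ψP
  have : IsCyclic χ.range := inferInstance
  obtain ⟨⟨_, y, rfl⟩, hy⟩ := IsCyclic.exists_generator (α := χ.range)
  -- the Sylow subgroup of the image of `N₂`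
  have hsyl : ∀ q ∈ N₂.map ψ, q ∈ (P : Subgroup G).map ψ →
      ∃ d ∈ (P : Subgroup G), d ∈ N₂ ∧ ψ d = q := by
    let T' : Subgroup G := ((P : Subgroup G).map ψ).comap ψ ⊓ N₂
    have hT'p : IsPGroup 2 T' := by
      let f : T' →* ((P : Subgroup G).map ψ) := (ψ.comp T'.subtype).codRestrict _ fun t => t.2.1
      refine (P.isPGroup'.map ψ).of_injective f fun s t e => ?_
      have e' : ψ (s : G) = ψ (t : G) := congrArg Subtype.val e
      have := hinj _ (mul_mem (inv_mem s.2.2) t.2.2) (by rw [map_mul, map_inv, e', inv_mul_cancel])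
      exact Subtype.ext (inv_mul_eq_one.1 this)
    have hle : (P : Subgroup G) ⊓ N₂ ≤ T' := fun g hg =>
      ⟨⟨g, (Subgroup.mem_inf.1 hg).1, rfl⟩, (Subgroup.mem_inf.1 hg).2⟩
    obtain ⟨P', hP'⟩ := hT'p.exists_le_sylow
    obtain ⟨c, hc⟩ := MulAction.exists_smul_eq G P' P
    have hcard : Nat.card T' ≤ Nat.card ((P : Subgroup G) ⊓ N₂ : Subgroup G) := by
      have hmap : T'.map (MulAut.conj c).toMonoidHom ≤ (P : Subgroup G) ⊓ N₂ := by
        intro g hg
        obtain ⟨t, ht, rfl⟩ := hg
        refine Subgroup.mem_inf.2 ⟨?_, Subgroup.Normal.conj_mem ‹_› _ ht.2 c⟩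
        rw [← hc]
        exact Subgroup.smul_mem_pointwise_smul t (MulAut.conj c) (P' : Subgroup G) (hP' ht)
      calc Nat.card T' = Nat.card (T'.map (MulAut.conj c).toMonoidHom) :=
            (Nat.card_congr (T'.equivMapOfInjective _ (MulAut.conj c).injective).toEquiv)
        _ ≤ _ := Subgroup.card_le_of_le hmap
    have heq := Subgroup.eq_of_le_of_card_ge hle hcard
    rintro q ⟨g, hg, rfl⟩ hq
    have hgT : g ∈ T' := Subgroup.mem_inf.2 ⟨hq, hg⟩
    rw [← heq] at hgT
    exact ⟨g, (Subgroup.mem_inf.1 hgT).1, (Subgroup.mem_inf.1 hgT).2, rfl⟩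
  -- a single element generates modulo the kernel
  have htop : Subgroup.zpowers y ⊔ ψP.ker = ⊤ := by
    rcases eq_top_or_exists_le_coatom (Subgroup.zpowers y ⊔ ψP.ker) with h | ⟨M, hM, hle⟩
    · exact h
    exfalso
    apply hM.1
    rw [eq_top_iff]
    intro g _
    obtain ⟨i, hi⟩ := hy ⟨χ g, g, rfl⟩
    have hi' : χ y ^ i = χ g := congrArg Subtype.val hi
    have hmem : ψ (((y ^ i)⁻¹ * g : (P : Subgroup G)) : G) ∈ N₂.map ψ := by
      have : χ ((y ^ i)⁻¹ * g) = 1 := by
        rw [map_mul, map_inv, map_zpow, hi', inv_mul_cancel]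
      exact (QuotientGroup.eq_one_iff _).1 this
    obtain ⟨d, hdP, hdN, hd⟩ := hsyl _ hmem ⟨_, ((y ^ i)⁻¹ * g).2, rfl⟩
    have hdM : (⟨d, hdP⟩ : (P : Subgroup G)) ∈ M := hD ⟨d, hdP⟩ hdN M hM
    have hk : (⟨d, hdP⟩ : (P : Subgroup G))⁻¹ * ((y ^ i)⁻¹ * g) ∈ ψP.ker := by
      rw [MonoidHom.mem_ker, map_mul, map_inv]
      change (ψ d)⁻¹ * ψ (((y ^ i)⁻¹ * g : (P : Subgroup G)) : G) = 1
      rw [hd, inv_mul_cancel]
    have h3 := mul_mem (mul_mem (zpow_mem (hle (Subgroup.mem_sup_left (Subgroup.mem_zpowers y))) i)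
      hdM) (hle (Subgroup.mem_sup_right hk))
    rwa [mul_assoc, mul_inv_cancel_left, mul_inv_cancel_left] at h3
  apply hncψ
  refine Subgroup.isCyclic_of_le (H' := Subgroup.zpowers (ψP y)) ?_
  rw [MonoidHom.range_eq_map, ← htop, Subgroup.map_sup, MonoidHom.map_zpowers,
    (Subgroup.map_eq_bot_iff ψP.ker).2 le_rfl, sup_bot_eq]

/-- The minimal normal subgroup together with either factor is the whole group. -/
theorem sup_eq_top (hih : IH G) (hR : NoRadical G) {A B X : Subgroup G} (hA : IsCyclic A)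
    (hB : IsZGroup B) (hAB : ∀ g : G, ∃ a ∈ A, ∃ b ∈ B, g = a * b) (hX : A ≤ X ∨ B ≤ X)
    (N : Subgroup G) [N.Normal] (hN : N ≠ ⊥) (hNX : N ≤ X)
    (huniq : ∀ M : Subgroup G, M.Normal → M ≠ ⊥ → N ≤ M) : X = ⊤ := by
  classical
  by_contra hXt
  have hNs : ¬ Group.IsSolvable N := fun hs => hN (hR _ inferInstance hs)
  have hCN : Subgroup.centralizer (N : Set G) = ⊥ := by
    by_contra hne
    have hle := huniq _ Subgroup.normal_centralizer hne
    refine hN (hR N inferInstance (Group.isSolvable_of_comm fun a b => Subtype.ext ?_))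
    exact (Subgroup.mem_centralizer_iff.1 (hle b.2) a a.2)
  let N' : Subgroup X := N.subgroupOf X
  have hN'n : N'.Normal := inferInstance
  let eN : N' ≃* N := Subgroup.subgroupOfEquivOfLe hNX
  have hN's : ¬ Group.IsSolvable N' := fun hs =>
    hNs (Group.isSolvable_of_surjective (f := eN.toMonoidHom) eN.surjective)
  have hXs : ¬ Group.IsSolvable X := fun hs => hN's inferInstance
  have hXR : NoRadical X := by
    intro S hS hSs
    have hSN : S ⊓ N' = ⊥ := by
      have hs2 : Group.IsSolvable (S ⊓ N' : Subgroup X) :=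
        Group.isSolvable_of_isSolvable_injective
          (Subgroup.inclusion_injective (inf_le_left : S ⊓ N' ≤ S))
      let T : Subgroup N := ((S ⊓ N').map X.subtype).subgroupOf N
      have hTn : T.Normal := by
        refine ⟨fun t ht n => ?_⟩
        simp only [T, Subgroup.mem_subgroupOf, Subgroup.mem_map] at ht ⊢
        obtain ⟨s, hs, e⟩ := ht
        refine ⟨⟨n, hNX n.2⟩ * s * ⟨n, hNX n.2⟩⁻¹, ?_, ?_⟩
        · exact (inferInstance : (S ⊓ N').Normal).conj_mem s hs _
        · simp only [Subgroup.coe_subtype] at e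
          simp [e]
      have hTs : Group.IsSolvable T := by
        have hsm : Group.IsSolvable ((S ⊓ N').map X.subtype) :=
          Group.isSolvable_of_surjective (X.subtype.subgroupMap_surjective _)
        have hle : (S ⊓ N').map X.subtype ≤ N := by
          rintro _ ⟨s, hs, rfl⟩
          exact (Subgroup.mem_inf.1 hs).2
        exact Group.isSolvable_of_isSolvable_injective
          (f := (Subgroup.subgroupOfEquivOfLe hle).toMonoidHom) (MulEquiv.injective _)
      have hT := noRadical_normal hR N T hTn hTs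
      rw [eq_bot_iff]
      intro s hs
      have hsT : (⟨(s : G), (Subgroup.mem_inf.1 hs).2⟩ : N) ∈ T := by
        simp only [T, Subgroup.mem_subgroupOf]
        exact ⟨s, hs, rfl⟩
      rw [hT, Subgroup.mem_bot] at hsT
      exact Subgroup.mem_bot.2 (Subtype.ext (congrArg (fun z : N => (z : G)) hsT))
    rw [eq_bot_iff]
    intro s hs
    have : (s : G) ∈ Subgroup.centralizer (N : Set G) := by
      refine Subgroup.mem_centralizer_iff.2 fun n hn => ?_
      have := Subgroup.commute_of_normal_of_disjoint S N' hS hN'n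
        (disjoint_iff.2 hSN) s ⟨n, hNX hn⟩ hs hn
      exact (congrArg Subtype.val this.eq).symm
    rw [hCN, Subgroup.mem_bot] at this
    exact Subgroup.mem_bot.2 (Subtype.ext this)
  have hlt : Nat.card X < Nat.card G := by
    refine lt_of_le_of_ne (Subgroup.card_le_card_group X) fun e => hXt ?_
    exact Subgroup.eq_top_of_card_eq X e
  obtain ⟨Ω, _, hΩ, hyp⟩ := hih X hlt hXs (Factored.subgroup hA hB hAB hX) hXR
  obtain ⟨p, hp, hpn⟩ := hyp.conclusion.exists_prime
  have : Fact p.Prime := ⟨hp⟩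
  have := hyp.pretrans
  have hUN : ∀ x : Ω, UU x ≤ N' := fun x => (normal_facts hyp hp hpn x N' hN's).1
  -- images in `G`
  let V : Ω → Subgroup G := fun x => (UU (G := X) x).map X.subtype
  have hVcard : ∀ x, Nat.card (V x) = p := fun x => by
    rw [← card_UU_eq hyp hpn x]
    exact (Nat.card_congr ((UU (G := X) x).equivMapOfInjective _ X.subtype_injective).toEquiv).symm
  have hVN : ∀ x, V x ≤ N := by
    rintro x _ ⟨w, hw, rfl⟩
    exact hUN x hw
  have hconjV : ∀ (g : X) (x : Ω), (V x).map (MulAut.conj (g : G)).toMonoidHom = V (g • x) := by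
    intro g x
    refine Subgroup.eq_of_le_of_card_ge ?_ ?_
    · rintro _ ⟨_, ⟨w, hw, rfl⟩, rfl⟩
      refine ⟨g * w * g⁻¹, ?_, by simp⟩
      have hmap : (UU (G := X) x).map (MulAut.conj g).toMonoidHom ≤ UU (g • x) := by
        rw [UU, Subgroup.map_commutator, UU]
        have : (stabilizer X x).map (MulAut.conj g).toMonoidHom ≤ stabilizer X (g • x) := by
          rintro _ ⟨s, hs, rfl⟩
          rw [MulEquiv.coe_toMonoidHom, MulAut.conj_apply, mem_stabilizer_iff, mul_smul, mul_smul,
            inv_smul_smul, show s • x = x from hs]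
        exact Subgroup.commutator_mono this this
      exact hmap ⟨w, hw, rfl⟩
    · rw [card_conj, hVcard, hVcard]
  have hVfix : ∀ x y : Ω, V x = V y → x = y := by
    intro x y e
    by_contra hne
    have h1 : UU (G := X) x = UU y := Subgroup.map_injective X.subtype_injective e
    have h2 : ∀ w ∈ UU (G := X) x, w = 1 := fun w hw =>
      hyp.UU_free (Ne.symm hne) hw (UU_le y (h1 ▸ hw))
    have h3 := card_UU_eq hyp hpn x
    rw [(Subgroup.eq_bot_iff_forall _).2 h2, Subgroup.card_bot] at h3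
    exact hp.ne_one h3.symm
  obtain ⟨x⟩ := hyp.nonempty
  obtain ⟨y₀, hy₀⟩ := exists_ne_point hyp x
  -- conjugates in `G` are indexed by the points
  have hsylow : ∀ (g : G), ∃ y : Ω, (V x).map (MulAut.conj g).toMonoidHom = V y := by
    intro g
    obtain ⟨d, hd⟩ : ∃ d, d + 1 = p := ⟨p - 1, by have := hp.one_le; omega⟩
    have hfac : (Nat.card N).factorization p = 1 := by
      have hle : (Nat.card N).factorization p ≤ 1 := by
        have hX' : (Nat.card X).factorization p = 1 := by
          rw [card_group hyp hpn hd, Nat.factorization_mul (Nat.mul_ne_zero (by omega) hp.ne_zero) (by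
            intro h0
            rw [h0] at hd
            exact hp.ne_one hd.symm), Nat.factorization_mul (by omega) hp.ne_zero]
          have h1 : (p + 1).factorization p = 0 := Nat.factorization_eq_zero_of_not_dvd fun h =>
            hp.not_dvd_one ((Nat.dvd_add_right dvd_rfl).1 h)
          have h2 : d.factorization p = 0 := Nat.factorization_eq_zero_of_not_dvd fun h => by
            rcases Nat.eq_zero_or_pos d with h0 | h0
            · rw [h0] at hd; exact hp.ne_one hd.symm
            · have := Nat.le_of_dvd h0 h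
              omega
          simp [h1, h2, hp.factorization_self]
        rw [← hX']
        exact (Nat.factorization_le_iff_dvd Nat.card_pos.ne' Nat.card_pos.ne').2
          (Subgroup.card_dvd_of_le hNX) p
      refine le_antisymm hle ?_
      refine Nat.Prime.factorization_pos_of_dvd hp Nat.card_pos.ne' ?_
      exact hVcard x ▸ Subgroup.card_dvd_of_le (hVN x)
    have hle' : (V x).map (MulAut.conj g).toMonoidHom ≤ N := by
      rintro _ ⟨w, hw, rfl⟩
      exact Subgroup.Normal.conj_mem ‹_› _ (hVN x hw) g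
    let S1 : Sylow p N := Sylow.ofCard ((V x).subgroupOf N) (by
      rw [Nat.card_congr (Subgroup.subgroupOfEquivOfLe (hVN x)).toEquiv, hVcard, hfac, pow_one])
    let S2 : Sylow p N := Sylow.ofCard (((V x).map (MulAut.conj g).toMonoidHom).subgroupOf N) (by
      rw [Nat.card_congr (Subgroup.subgroupOfEquivOfLe hle').toEquiv, card_conj, hVcard, hfac,
        pow_one])
    obtain ⟨n, hn⟩ := MulAction.exists_smul_eq N S1 S2
    refine ⟨(⟨n, hNX n.2⟩ : X) • x, ?_⟩
    rw [← hconjV]
    refine (Subgroup.eq_of_le_of_card_ge ?_ (by rw [card_conj, card_conj])).symm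
    rintro _ ⟨w, hw, rfl⟩
    have h1 : n * ⟨w, hVN x hw⟩ * n⁻¹ ∈ (S2 : Subgroup N) := by
      rw [← hn]
      exact Subgroup.smul_mem_pointwise_smul (⟨w, hVN x hw⟩ : N) (MulAut.conj n)
        (S1 : Subgroup N) hw
    exact h1
  -- centraliser of `V x`
  have hCX : ∀ c : G, (∀ v ∈ V x, c * v = v * c) → c ∈ X := by
    intro c hc
    let K : Subgroup G := (Subgroup.normalizer (V x : Set G)).normalCore
    have hK : K = ⊥ := by
      by_contra hK
      have hle : N ≤ Subgroup.normalizer (V x : Set G) :=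
        (huniq K inferInstance hK).trans (Subgroup.normalCore_le _)
      have hN'b : N' ≠ ⊥ := fun e => hN's (by rw [e]; infer_instance)
      have := hyp.faithful
      obtain ⟨n, hn, hnx⟩ := normal_trans hyp.two N' hN'b x y₀
      have h1 := hconjV n x
      have h2 : (V x).map (MulAut.conj (n : G)).toMonoidHom = V x :=
        Subgroup.mem_normalizer_iff_map_conj_eq.1 (hle hn)
      rw [h2, hnx] at h1
      exact hy₀ (hVfix _ _ h1).symm
    -- adjust `c` by an element of `V x`
    obtain ⟨g₁, hg₁⟩ := MulAction.exists_smul_eq X x y₀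
    obtain ⟨y₁, hy₁⟩ := hsylow (c * g₁)
    have hconjmul : ∀ (g h : G) (W : Subgroup G), W.map (MulAut.conj (g * h)).toMonoidHom =
        (W.map (MulAut.conj h).toMonoidHom).map (MulAut.conj g).toMonoidHom := fun g h W => by
      rw [Subgroup.map_map]
      congr 1
      ext z
      simp [mul_assoc]
    have hcy : (V y₀).map (MulAut.conj c).toMonoidHom = V y₁ := by
      rw [← hg₁, ← hconjV, ← hconjmul, hy₁]
    have hcx : (V x).map (MulAut.conj c).toMonoidHom = V x := by
      refine Subgroup.eq_of_le_of_card_ge ?_ (by rw [card_conj])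
      rintro _ ⟨w, hw, rfl⟩
      rw [MulEquiv.coe_toMonoidHom, MulAut.conj_apply, hc w hw, mul_inv_cancel_right]
      exact hw
    have hy₁x : y₁ ≠ x := fun e => hy₀ (hVfix _ _ (by
      rw [e, ← hcx] at hcy
      exact Subgroup.map_injective (MulAut.conj c).injective hcy))
    obtain ⟨w, hw, hwy⟩ := hyp.UU_trans hy₀.symm (Ne.symm hy₁x)
    have hwV : (w : G) ∈ V x := ⟨w, hw, rfl⟩
    have hcom : ∀ v ∈ V x, v * (w : G) = (w : G) * v := by
      rintro _ ⟨v, hv, rfl⟩
      have := hyp.cyclic_UU x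
      exact congrArg (fun z : UU (G := X) x => ((z : X) : G))
        (have := IsCyclic.isMulCommutative (α := UU (G := X) x)
         mul_comm' (⟨v, hv⟩ : UU (G := X) x) ⟨w, hw⟩)
    set c' := (w : G)⁻¹ * c with hc'
    have hc'V : ∀ v ∈ V x, c' * v = v * c' := by
      intro v hv
      have h1 : Commute (w : G) v := (hcom v hv).symm
      exact (h1.inv_left.mul_left (show Commute c v from hc v hv)).eq
    have hc'fix : ∀ y : Ω, (V y).map (MulAut.conj c').toMonoidHom = V y := by
      intro y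
      by_cases hy : y = x
      · subst hy
        refine Subgroup.eq_of_le_of_card_ge ?_ (by rw [card_conj])
        rintro _ ⟨v, hv, rfl⟩
        rw [MulEquiv.coe_toMonoidHom, MulAut.conj_apply, hc'V v hv, mul_inv_cancel_right]
        exact hv
      obtain ⟨v, hv, rfl⟩ := hyp.UU_trans hy₀.symm (Ne.symm hy)
      have h1 : c' * (v : G) = (v : G) * c' := hc'V _ ⟨v, hv, rfl⟩
      rw [← hconjV, ← hconjmul, h1, hconjmul]
      congr 1
      rw [hc', hconjmul, hcy, ← Subgroup.coe_inv, hconjV, inv_smul_eq_iff.2 hwy.symm]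
    have hc'K : c' ∈ K := by
      intro g
      obtain ⟨y, hy⟩ := hsylow g⁻¹
      rw [Subgroup.mem_normalizer_iff_map_conj_eq]
      change (V x).map (MulAut.conj (g * c' * g⁻¹)).toMonoidHom = V x
      refine Subgroup.map_injective (MulAut.conj g⁻¹).injective
        (?_ : _ = (V x).map (MulAut.conj g⁻¹).toMonoidHom)
      rw [← hconjmul, show g⁻¹ * (g * c' * g⁻¹) = c' * g⁻¹ by group, hconjmul, hy, hc'fix]
    rw [hK, Subgroup.mem_bot, hc', inv_mul_eq_one] at hc'K
    exact hc'K ▸ w.2
  -- every element is in `X`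
  apply hXt
  rw [eq_top_iff]
  intro g _
  obtain ⟨y, hy⟩ := hsylow g
  obtain ⟨g₁, hg₁⟩ := MulAction.exists_smul_eq X x y
  set k := (g₁ : G)⁻¹ * g with hk
  suffices hkX : k ∈ X by
    have := mul_mem g₁.2 hkX
    rwa [hk, mul_inv_cancel_left] at this
  have hkV : (V x).map (MulAut.conj k).toMonoidHom = V x := by
    have h1 := hconjV g₁⁻¹ y
    rw [inv_smul_eq_iff.2 hg₁.symm, ← hy, Subgroup.map_map] at h1
    rw [hk]
    convert h1 using 2
    ext z
    simp [mul_assoc]
  have hkmem : ∀ w : UU (G := X) x, ∃ w' : UU (G := X) x,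
      ((w' : X) : G) = k * ((w : X) : G) * k⁻¹ := by
    intro w
    have : k * ((w : X) : G) * k⁻¹ ∈ V x := hkV ▸ ⟨_, ⟨w, w.2, rfl⟩, rfl⟩
    obtain ⟨w', hw', e⟩ := this
    exact ⟨⟨w', hw'⟩, e⟩
  choose fk hfk using hkmem
  have hfinj : Function.Injective fk := by
    intro v w e
    have := hfk v
    rw [e, hfk w] at this
    exact Subtype.ext (Subtype.ext (mul_left_cancel (mul_right_cancel this)).symm)
  let φ : MulAut (UU (G := X) x) := MulEquiv.ofBijective
    (MonoidHom.mk' fk fun v w => Subtype.ext (Subtype.ext (by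
      simp only [Subgroup.coe_mul, hfk]
      group))) (Finite.injective_iff_bijective.1 hfinj)
  obtain ⟨k₁, -, hk₁⟩ := conj_surj hyp hp hpn hy₀.symm φ
  have hcent := hCX ((k₁ : G)⁻¹ * k) (by
    rintro _ ⟨v, hv, rfl⟩
    have h1 := congrArg (fun z : X => (z : G)) (hk₁ ⟨v, hv⟩)
    simp only [Subgroup.coe_mul, InvMemClass.coe_inv] at h1
    have h2 : k * (v : G) * k⁻¹ = (k₁ : G) * v * (k₁ : G)⁻¹ := (hfk ⟨v, hv⟩).symm.trans h1
    simp only [Subgroup.coe_subtype]
    rw [mul_assoc, mul_inv_eq_iff_eq_mul.1 h2]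
    simp [mul_assoc])
  have := mul_mem k₁.2 hcent
  rwa [mul_inv_cancel_left] at this

/-- The main induction. -/
theorem model_aux : ∀ (n : ℕ) (G : Type u) [Group G] [Finite G], Nat.card G = n →
    ¬ Group.IsSolvable G → Factored G → NoRadical G → Model G := by
  intro n
  induction n using Nat.strong_induction_on with
  | _ n ih =>
    intro G _ _ hn hG hF hR
    classical
    have : Fact (Nat.Prime 2) := ⟨Nat.prime_two⟩
    have hih : IH G := fun K _ _ hK hKs hKF hKR => ih _ (hn ▸ hK) K rfl hKs hKF hKR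
    have htop : (⊤ : Subgroup G) ≠ ⊥ := fun e => hG (Group.isSolvable_of_top_eq_bot G e)
    obtain ⟨N, hNn, hN, -, hmin⟩ := exists_minimal_normal (⊤ : Subgroup G) inferInstance htop
    have huniq : ∀ M : Subgroup G, M.Normal → M ≠ ⊥ → N ≤ M := by
      intro M hM hMne
      obtain ⟨M', hM'n, hM', hM'le, hmin'⟩ := exists_minimal_normal M hM hMne
      exact (unique_minimal hih hR hF N M' hN hM' hmin hmin') ▸ hM'le
    obtain ⟨A, B, hA, hB, hAB⟩ := hF
    have hNA : N ⊔ A = ⊤ :=
      sup_eq_top hih hR hA hB hAB (Or.inl le_sup_right) N hN le_sup_left huniq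
    have hNB : N ⊔ B = ⊤ :=
      sup_eq_top hih hR hA hB hAB (Or.inr le_sup_right) N hN le_sup_left huniq
    have hBtop : B ≠ ⊤ := fun e => hG (by
      have : Group.IsSolvable B := inferInstance
      rw [e] at this
      exact Group.isSolvable_of_surjective (f := (Subgroup.topEquiv (G := G)).toMonoidHom)
        Subgroup.topEquiv.surjective)
    obtain ⟨M, hM, hBM⟩ := (eq_top_or_exists_le_coatom B).resolve_left hBtop
    have hNM : ¬ N ≤ M := fun h => hM.1 (top_le_iff.1 (hNB ▸ sup_le h hBM))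
    have hcoreM : M.normalCore = ⊥ := by
      by_contra h
      exact hNM ((huniq _ inferInstance h).trans (Subgroup.normalCore_le M))
    have hMB : M ≤ B := by
      intro g hg
      obtain ⟨a, ha, b, hb, rfl⟩ := hAB g
      have haM : a ∈ M := by
        have := mul_mem hg (inv_mem (hBM hb))
        rwa [mul_inv_cancel_right] at this
      have hcomm : ∀ c ∈ A, c * a = a * c := fun c hc =>
        have := hA.isMulCommutative
        congrArg Subtype.val (mul_comm' (⟨c, hc⟩ : A) ⟨a, ha⟩)
      have hacore : a ∈ M.normalCore := by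
        intro h
        obtain ⟨c, hc, d, hd, e⟩ := hAB h⁻¹
        have hh : h = d⁻¹ * c⁻¹ := by rw [← inv_inj, e]; group
        have h1 : h * a * h⁻¹ = d⁻¹ * a * d := by
          rw [hh, mul_inv_rev, inv_inv, inv_inv]
          calc d⁻¹ * c⁻¹ * a * (c * d) = d⁻¹ * c⁻¹ * (a * c) * d := by simp only [mul_assoc]
            _ = d⁻¹ * a * d := by rw [← hcomm c hc]; group
        rw [h1]
        exact mul_mem (mul_mem (inv_mem (hBM hd)) haM) (hBM hd)
      rw [hcoreM, Subgroup.mem_bot] at hacore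
      rw [hacore, one_mul]
      exact hb
    obtain rfl : M = B := le_antisymm hMB hBM
    -- the action on the cosets
    have hfaith : FaithfulSMul G (G ⧸ M) := by
      refine faithfulSMul_iff.2 fun a ha => ?_
      have h1 : a ∈ M.normalCore := by
        rw [Subgroup.normalCore_eq_ker, MonoidHom.mem_ker]
        exact Equiv.ext ha
      rwa [hcoreM, Subgroup.mem_bot] at h1
    have htr := quotient_trans hAB
    have hfree := quotient_free hR hA hB hAB
    have hnt : Nontrivial (G ⧸ M) := QuotientGroup.nontrivial_iff.2 hBtop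
    have hprim : IsPreprimitive G (G ⧸ M) := by
      rw [← isCoatom_stabilizer_iff_preprimitive G ((1 : G) : G ⧸ M), MulAction.stabilizer_quotient]
      exact hM
    refine ⟨G ⧸ M, inferInstance, inferInstance,
      hyp_of_regular hG hprim A htr hfree (stabilizer_zgroup hB) ?_⟩
    -- the degree is even
    by_contra hodd
    have hcardA : Nat.card A = Nat.card (G ⧸ M) := by
      have hAtr : IsPretransitive A (G ⧸ M) :=
        ⟨fun x y => by obtain ⟨g, hg, hgy⟩ := htr x y; exact ⟨⟨g, hg⟩, hgy⟩⟩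
      have hAfree : stabilizer A ((1 : G) : G ⧸ M) = ⊥ :=
        (Subgroup.eq_bot_iff_forall _).2 fun g hg => Subtype.ext (hfree g g.2 ((1 : G) : G ⧸ M) hg)
      rw [← Subgroup.index_bot (G := A), ← hAfree, index_stabilizer_of_transitive]
    have h2t := two_trans_of_regular hG hprim A htr hfree
    obtain ⟨g, hgx⟩ : ∃ g : G, g • ((1 : G) : G ⧸ M) ≠ ((1 : G) : G ⧸ M) := by
      obtain ⟨y, hy⟩ := exists_ne ((1 : G) : G ⧸ M)
      obtain ⟨g, hg, hgy⟩ := htr ((1 : G) : G ⧸ M) y
      exact ⟨g, hgy ▸ hy⟩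
    obtain ⟨s, hs1, hs2⟩ := exists_map_pair h2t (a := ((1 : G) : G ⧸ M))
      (b := g • ((1 : G) : G ⧸ M)) (c := g • ((1 : G) : G ⧸ M)) (d := ((1 : G) : G ⧸ M))
      (Ne.symm hgx) hgx
    have hG2 : 2 ∣ Nat.card G := by
      -- the square of a transposing element fixes the point
      rcases (Nat.even_or_odd (orderOf s)) with he | ho
      · exact he.two_dvd.trans (orderOf_dvd_natCard s)
      · exfalso
        have h4 : (s * s) • ((1 : G) : G ⧸ M) = ((1 : G) : G ⧸ M) := by
          rw [mul_smul, hs1, hs2]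
        obtain ⟨r, hr⟩ := ho
        have h3 : s ^ (2 * r + 1) • ((1 : G) : G ⧸ M) = s • ((1 : G) : G ⧸ M) := by
          rw [pow_succ', mul_smul, pow_mul, pow_two]
          congr 1
          exact mem_stabilizer_iff.1 (pow_mem (show s * s ∈ stabilizer G _ from h4) r)
        rw [← hr, pow_orderOf_eq_one, one_smul, hs1] at h3
        exact hgx h3.symm
    have hmin2 : (Nat.card G).minFac = 2 := (Nat.minFac_eq_two_iff _).2 hG2
    obtain ⟨S⟩ : Nonempty (Sylow 2 M) := inferInstance
    have hS2 : Nat.card ((S : Subgroup M).map M.subtype) = 2 ^ (Nat.card G).factorization 2 := by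
      have hc : Nat.card (G ⧸ M) * Nat.card M = Nat.card G := by
        rw [← Subgroup.index_eq_card, mul_comm, Subgroup.card_mul_index]
      have e1 := (Nat.card_congr
        ((S : Subgroup M).equivMapOfInjective _ M.subtype_injective).toEquiv).symm
      rw [e1, S.card_eq_multiplicity, ← hc, Nat.factorization_mul Nat.card_pos.ne' Nat.card_pos.ne',
        Finsupp.add_apply, Nat.factorization_eq_zero_of_not_dvd (n := Nat.card (G ⧸ M))
          (fun h => hodd (even_iff_two_dvd.2 h)), zero_add]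
    let P : Sylow 2 G := Sylow.ofCard _ hS2
    have hPcyc : IsCyclic (P : Subgroup G) := by
      refine isCyclic_of_le_zgroup (B := M) (p := 2) (Subgroup.map_subtype_le _) ?_
      exact (IsPGroup.of_card hS2)
    set f := MonoidHom.transferSylow P (IsCyclic.normalizer_le_centralizer hmin2 hPcyc)
    have hnd : ¬ 2 ∣ Nat.card f.ker := MonoidHom.not_dvd_card_ker_transferSylow P
      (IsCyclic.normalizer_le_centralizer hmin2 hPcyc)
    have hkb : f.ker ≠ ⊥ := by
      intro e
      apply hG
      have hinj : Function.Injective f := (MonoidHom.ker_eq_bot_iff f).1 e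
      have : Group.IsSolvable (P : Subgroup G) := inferInstance
      exact Group.isSolvable_of_isSolvable_injective (f := f) hinj
    have hAk : A ≤ f.ker := by
      intro a ha
      rw [MonoidHom.mem_ker, ← orderOf_eq_one_iff]
      have h1 : orderOf (f a) ∣ Nat.card A :=
        (orderOf_map_dvd f a).trans (Subgroup.orderOf_dvd_natCard A ha)
      obtain ⟨i, hi⟩ := IsPGroup.iff_orderOf.1 P.isPGroup' (f a)
      rw [hi] at h1 ⊢
      rcases Nat.eq_zero_or_pos i with rfl | hi0
      · rfl
      · exact absurd (even_iff_two_dvd.2 ((dvd_pow_self 2 (by omega)).trans h1)) (hcardA ▸ hodd)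
    have hk : f.ker = ⊤ :=
      top_le_iff.1 (hNA ▸ sup_le (huniq _ inferInstance hkb) hAk)
    exact hnd (by rw [hk, Subgroup.card_top]; exact hG2)

end Cfsg.Agent.H36.CyZ
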