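import Cfsg.Agent.H36.CyZ.Factor
import Cfsg.Agent.S3559
import Cfsg.Agent.S3972
import Cfsg.Agent.S0675
import Cfsg.Agent.H77.MaximalIndex

/-!
The action on the cosets of the Z-group factor.
-/

set_option autoImplicit false
set_option linter.unusedSectionVars false

namespace Cfsg.Agent.H36.CyZ

open MulAction

universe u

variable {G Ω : Type u} [Group G] [MulAction G Ω] [Finite G] [Finite Ω]

/-- A regular cyclic subgroup gives the shape of a Sylow 2-subgroup. -/
theorem sylow_of_regular (A : Subgroup G) [hA : IsCyclic A]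
    (htr : ∀ x y : Ω, ∃ g ∈ A, g • x = y) (hfree : ∀ g ∈ A, ∀ x : Ω, g • x = x → g = 1)
    (hne : Nonempty Ω) :
    ∃ (P : Sylow 2 G) (a : G) (x : Ω), a ∈ P ∧
      (∀ (y : Ω) (k : ℤ), a ^ k • y = y → a ^ k = 1) ∧ ∀ g ∈ P, ∃ k : ℤ, g • x = a ^ k • x := by
  classical
  have := Fintype.ofFinite Ω
  have : Fact (Nat.Prime 2) := ⟨Nat.prime_two⟩
  obtain ⟨x₀⟩ := hne
  have hcardA : Nat.card A = Nat.card Ω := by
    refine Nat.card_congr (Equiv.ofBijective (fun g : A => (g : G) • x₀) ⟨fun g g' e => ?_, ?_⟩)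
    · have h1 := hfree ((g' : G)⁻¹ * g) (mul_mem (inv_mem g'.2) g.2) x₀
        (by rw [mul_smul]; exact inv_smul_eq_iff.2 e)
      exact Subtype.ext (inv_mul_eq_one.1 h1).symm
    · intro y
      obtain ⟨g, hg, hgy⟩ := htr x₀ y
      exact ⟨⟨g, hg⟩, hgy⟩
  obtain ⟨S⟩ : Nonempty (Sylow 2 A) := inferInstance
  obtain ⟨⟨a, haA⟩, ha⟩ := IsCyclic.exists_generator (α := (S : Subgroup A))
  set e := (Nat.card Ω).factorization 2
  have hord : orderOf (a : G) = 2 ^ e := by
    have h1 := orderOf_eq_card_of_forall_mem_zpowers ha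
    rw [Subgroup.orderOf_mk] at h1
    rw [Subgroup.orderOf_coe, h1, S.card_eq_multiplicity, hcardA]
  have hafree : ∀ (y : Ω) (k : ℤ), (a : G) ^ k • y = y → (a : G) ^ k = 1 :=
    fun y k hk => hfree _ (zpow_mem a.2 k) y hk
  obtain ⟨P, hP⟩ := (IsPGroup.of_card (p := 2) (n := e)
    (by rw [Nat.card_zpowers, hord]) : IsPGroup 2 (Subgroup.zpowers (a : G))).exists_le_sylow
  have haP : (a : G) ∈ P := hP (Subgroup.mem_zpowers _)
  obtain ⟨x, hx⟩ : ∃ x : Ω, (orbit (P : Subgroup G) x).ncard = 2 ^ e := by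
    by_contra hno
    push Not at hno
    have hdvd : 2 ^ (e + 1) ∣ Nat.card Ω := by
      have := Fintype.ofFinite (Quotient (orbitRel (P : Subgroup G) Ω))
      rw [Nat.card_congr (selfEquivSigmaOrbits (P : Subgroup G) Ω), Nat.card_sigma]
      refine Finset.dvd_sum fun q _ => ?_
      rw [Nat.card_coe_set_eq]
      obtain ⟨k, hk⟩ := P.isPGroup'.card_orbit (Quotient.out q)
      rw [Nat.card_coe_set_eq] at hk
      rw [hk]
      refine pow_dvd_pow 2 (Nat.succ_le_of_lt (lt_of_le_of_ne ?_ fun e' => hno _ (by rw [hk, e'])))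
      have hsub : orbit (Subgroup.zpowers (a : G)) (Quotient.out q) ⊆
          orbit (P : Subgroup G) (Quotient.out q) := by
        rintro _ ⟨⟨w, hw⟩, rfl⟩
        exact ⟨⟨w, hP hw⟩, rfl⟩
      have := Set.ncard_le_ncard hsub (Set.toFinite _)
      rw [zpowers_free_orbit _ hafree, hord, hk] at this
      exact (Nat.pow_le_pow_iff_right (by norm_num)).1 this
    have : Nonempty Ω := ⟨x₀⟩
    exact Nat.pow_succ_factorization_not_dvd Nat.card_pos.ne' Nat.prime_two hdvd
  refine ⟨P, a, x, haP, hafree, fun g hg => ?_⟩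
  have horb : orbit (Subgroup.zpowers (a : G)) x = orbit (P : Subgroup G) x := by
    refine Set.eq_of_subset_of_ncard_le ?_ ?_ (Set.toFinite _)
    · rintro _ ⟨⟨w, hw⟩, rfl⟩
      exact ⟨⟨w, hP hw⟩, rfl⟩
    · rw [zpowers_free_orbit _ hafree, hord, hx]
  obtain ⟨⟨w, k, rfl⟩, hk⟩ : g • x ∈ orbit (Subgroup.zpowers (a : G)) x := horb ▸ ⟨⟨g, hg⟩, rfl⟩
  exact ⟨k, hk.symm⟩

theorem solvable_of_card_le_four [FaithfulSMul G Ω] (h : Nat.card Ω ≤ 4) : Group.IsSolvable G := by
  classical
  have := Fintype.ofFinite Ω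
  rw [Nat.card_eq_fintype_card] at h
  let e : Ω ↪ Fin 4 := (Fintype.equivFin Ω).toEmbedding.trans (Fin.castLEEmb h)
  have := Cfsg.Agent.H77.isSolvable_perm_four (α := Fin 4) (by simp)
  exact Group.isSolvable_of_isSolvable_injective
    (f := (Equiv.Perm.viaEmbeddingHom e).comp (MulAction.toPermHom G Ω))
    ((Equiv.Perm.viaEmbeddingHom_injective e).comp MulAction.toPerm_injective)

/-- A primitive nonsolvable group with a regular cyclic subgroup is doubly transitive. -/
theorem two_trans_of_regular [FaithfulSMul G Ω] (hG : ¬ Group.IsSolvable G)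
    (hprim : IsPreprimitive G Ω) (A : Subgroup G) [hA : IsCyclic A]
    (htr : ∀ x y : Ω, ∃ g ∈ A, g • x = y) (hfree : ∀ g ∈ A, ∀ x : Ω, g • x = x → g = 1) :
    IsMultiplyPretransitive G Ω 2 := by
  classical
  have hn : 2 ≤ Nat.card Ω := by
    by_contra h
    exact hG (solvable_of_card_le_four (Ω := Ω) (by omega))
  have hne : Nonempty Ω := (Nat.card_pos_iff.1 (by omega)).1
  have hAfree : ∀ x : Ω, stabilizer A x = ⊥ := fun x =>
    (Subgroup.eq_bot_iff_forall _).2 fun g hg => Subtype.ext (hfree g g.2 x hg)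
  have hAtr : IsPretransitive A Ω :=
    ⟨fun x y => by obtain ⟨g, hg, hgy⟩ := htr x y; exact ⟨⟨g, hg⟩, hgy⟩⟩
  by_cases hpp : IsPrimePow (Nat.card Ω)
  · have := Fintype.ofFinite Ω
    obtain ⟨p, m, hp, hm, hpm⟩ := (isPrimePow_nat_iff _).1 hpp
    set H := (MulAction.toPermHom G Ω).range
    let f : G →* H := (MulAction.toPermHom G Ω).rangeRestrict
    have hf : Function.Surjective f := (MulAction.toPermHom G Ω).rangeRestrict_surjective
    have hinj : Function.Injective f := fun g g' e =>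
      MulAction.toPerm_injective (congrArg Subtype.val e)
    have htrH : IsPretransitive H Ω := ⟨fun x y => by
      obtain ⟨g, hg, hgy⟩ := htr x y
      exact ⟨f g, hgy⟩⟩
    have hnotsolv : ¬ Group.IsSolvable H := fun hs =>
      hG (Group.isSolvable_of_isSolvable_injective (f := f) hinj)
    have back : IsMultiplyPretransitive H Ω 2 → IsMultiplyPretransitive G Ω 2 := by
      intro h2
      rw [is_two_pretransitive_iff]
      intro a b c d hab hcd
      obtain ⟨q, hqa, hqb⟩ := exists_map_pair h2 hab hcd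
      obtain ⟨g, rfl⟩ := hf q
      exact ⟨g, hqa, hqb⟩
    rcases Nat.lt_or_ge m 2 with hm1 | hm2
    · have hm' : m = 1 := by omega
      rw [hm', pow_one] at hpm
      rw [Nat.card_eq_fintype_card] at hpm
      exact back ((S0675.result (hpm ▸ hp) H).resolve_left hnotsolv)
    · by_contra h2
      have hcardA : Nat.card A = Nat.card Ω := by
        obtain ⟨x₀⟩ := hne
        rw [← Subgroup.index_bot (G := A), ← hAfree x₀, index_stabilizer_of_transitive]
      obtain ⟨⟨g, hgA⟩, hgen⟩ := IsCyclic.exists_generator (α := A)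
      have hord : orderOf (f g) = p ^ m := by
        rw [orderOf_injective f hinj, hpm, ← hcardA, ← orderOf_eq_card_of_forall_mem_zpowers hgen,
          Subgroup.orderOf_mk]
      have := (S3972.result p m hp hm2 (by rw [← Nat.card_eq_fintype_card]; exact hpm.symm) H htrH
        (fun h => h2 (back h)) (f g) hord).1
      apply this
      let map : Ω →ₑ[(f : G → H)] Ω := { toFun := id, map_smul' := fun _ _ => rfl }
      exact IsPreprimitive.of_surjective (f := map) Function.surjective_id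
  · rcases S3559.result (G := G) (Ω := Ω) inferInstance hn hpp A hA ⟨hAtr, hAfree⟩ with h | h
    · exact absurd hprim h
    · exact h

/-- The hypotheses of the core from a primitive action with a regular cyclic subgroup and
Z-group stabilisers, unless the Sylow 2-subgroup is in a stabiliser. -/
theorem hyp_of_regular [FaithfulSMul G Ω] (hG : ¬ Group.IsSolvable G)
    (hprim : IsPreprimitive G Ω) (A : Subgroup G) [hA : IsCyclic A]
    (htr : ∀ x y : Ω, ∃ g ∈ A, g • x = y) (hfree : ∀ g ∈ A, ∀ x : Ω, g • x = x → g = 1)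
    (hz : ∀ x : Ω, IsZGroup (stabilizer G x)) (heven : Even (Nat.card Ω)) : Hyp G Ω := by
  have hn4 : 4 ≤ Nat.card Ω := by
    by_contra h
    exact hG (solvable_of_card_le_four (Ω := Ω) (by omega))
  exact ⟨inferInstance, two_trans_of_regular hG hprim A htr hfree, heven, hn4, hz,
    sylow_of_regular A htr hfree (Nat.card_pos_iff.1 (by omega)).1⟩

end Cfsg.Agent.H36.CyZ
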