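import Cfsg.Agent.H36.CyZ.Core
import Cfsg.Agent.Perm.PrimeAddOne.FullCase

/-!
Groups satisfying the hypotheses of the doubly transitive core: consequences and `PGL(2, p)`.
-/

set_option autoImplicit false
set_option linter.unusedSectionVars false

namespace Cfsg.Agent.H36.CyZ

open MulAction

universe u

variable {G Ω : Type u} [Group G] [MulAction G Ω] [Finite G] [Finite Ω]

/-- A group with an action satisfying the hypotheses. -/
def Model (G : Type u) [Group G] : Prop :=
  ∃ (Ω : Type u) (_ : MulAction G Ω), Finite Ω ∧ Hyp G Ω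

theorem card_UU_eq (h : Hyp G Ω) {p : ℕ} (hn : Nat.card Ω = p + 1) (x : Ω) :
    Nat.card (UU (G := G) x) = p := by
  have := h.card_UU x
  omega

theorem exists_ne_point (h : Hyp G Ω) (a : Ω) : ∃ b, b ≠ a := by
  by_contra hn
  push Not at hn
  have : Subsingleton Ω := ⟨fun u v => by rw [hn u, hn v]⟩
  have := Finite.card_le_one_iff_subsingleton.2 this
  have := h.four
  omega

theorem card_group (h : Hyp G Ω) {p d : ℕ} (hn : Nat.card Ω = p + 1) (hd : d + 1 = p) :
    Nat.card G = (p + 1) * p * d := by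
  obtain ⟨a⟩ := h.nonempty
  obtain ⟨b, hb⟩ := exists_ne_point h a
  have h2 := h.conclusion.card_two a b hb.symm
  rw [← h.card_stab a, h.card_stab_eq hb.symm, card_UU_eq h hn, hn,
    show Nat.card (twoStab (G := G) a b) = d by omega]
  ring

/-- A non-solvable normal subgroup contains the derived subgroup of a point stabiliser and has
cyclic quotient. -/
theorem normal_facts (h : Hyp G Ω) {p : ℕ} (hp : p.Prime) (hn : Nat.card Ω = p + 1) (x : Ω)
    (N : Subgroup G) [N.Normal] (hN : ¬ Group.IsSolvable N) :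
    UU x ≤ N ∧ IsCyclic (G ⧸ N) := by
  classical
  have := h.faithful
  obtain ⟨y, hy⟩ := exists_ne_point h x
  have hNbot : N ≠ ⊥ := fun e => hN (by subst e; infer_instance)
  have htr := normal_trans h.two N hNbot
  have hUc : Nat.card (UU (G := G) x) = p := card_UU_eq h hn x
  have : Fact p.Prime := ⟨hp⟩
  have hUN : UU x ≤ N := by
    by_contra hle
    have hdisj : ∀ w ∈ UU (G := G) x, w ∈ N → w = 1 := by
      intro w hw hwN
      by_contra hw1
      refine hle fun v hv => ?_
      obtain ⟨i, hi⟩ := mem_zpowers_of_prime_card (G := UU (G := G) x) (p := p) hUc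
        (g := ⟨w, hw⟩) (g' := ⟨v, hv⟩) (fun e => hw1 (congrArg Subtype.val e))
      have hv' : w ^ i = v := congrArg Subtype.val hi
      exact hv' ▸ zpow_mem hwN i
    have hNB : ∀ n ∈ N, n • x = x → n = 1 := by
      intro n hn' hnx
      have hcomm : ∀ v ∈ UU (G := G) x, n * v = v * n := by
        intro v hv
        have h1 : n * v * n⁻¹ * v⁻¹ ∈ UU x := mul_mem (conj_mem_UU hnx hv) (inv_mem hv)
        have h2 : n * v * n⁻¹ * v⁻¹ ∈ N := by
          rw [show n * v * n⁻¹ * v⁻¹ = n * (v * n⁻¹ * v⁻¹) by group]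
          exact mul_mem hn' (Subgroup.Normal.conj_mem ‹_› _ (inv_mem hn') v)
        exact mul_inv_eq_iff_eq_mul.1 (mul_inv_eq_one.1 (hdisj _ h1 h2))
      obtain ⟨w, hw, k, hk, rfl⟩ := h.stab_decomp hy.symm hnx
      have hk1 : k = 1 := by
        refine h.twoStab_faithful hy.symm hk fun v hv => ?_
        have := h.cyclic_UU x
        have hwv : w * v = v * w :=
          have := IsCyclic.isMulCommutative (α := UU (G := G) x)
          congrArg Subtype.val (mul_comm' (⟨w, hw⟩ : UU (G := G) x) ⟨v, hv⟩)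
        refine mul_left_cancel (a := w) ?_
        rw [← mul_assoc, hcomm v hv, ← mul_assoc, ← mul_assoc, hwv]
      rw [hk1, mul_one] at hn' ⊢
      exact hdisj w hw hn'
    -- all non-identity elements of `N` have the same order
    have hconj : ∀ n₁ ∈ N, ∀ n₂ ∈ N, n₁ ≠ 1 → n₂ ≠ 1 → orderOf n₁ = orderOf n₂ := by
      intro n₁ hn₁ n₂ hn₂ h1 h2
      have hx1 : x ≠ n₁ • x := fun e => h1 (hNB n₁ hn₁ e.symm)
      have hx2 : x ≠ n₂ • x := fun e => h2 (hNB n₂ hn₂ e.symm)
      obtain ⟨v, hv, hvx⟩ := h.UU_trans hx1 hx2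
      have hvfix : v • x = x := UU_le x hv
      have hmem : n₂⁻¹ * (v * n₁ * v⁻¹) ∈ N :=
        mul_mem (inv_mem hn₂) (Subgroup.Normal.conj_mem ‹_› _ hn₁ v)
      have he := hNB _ hmem (by
        rw [mul_smul, mul_smul, mul_smul, inv_smul_eq_iff.2 hvfix.symm, hvx, inv_smul_smul])
      rw [inv_mul_eq_one] at he
      rw [he]
      exact ((MulAut.conj v).orderOf_eq n₁).symm
    have hN2 : 2 ∣ Nat.card N :=
      h.even.two_dvd.trans (card_dvd_of_trans N x (htr x))
    have : Fact (Nat.Prime 2) := ⟨Nat.prime_two⟩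
    obtain ⟨⟨n₀, hn₀⟩, hn₀'⟩ := exists_prime_orderOf_dvd_card' (G := N) 2 hN2
    rw [Subgroup.orderOf_mk] at hn₀'
    apply hN
    have hpN : IsPGroup 2 N := IsPGroup.iff_orderOf.2 fun n => by
      by_cases hn1 : (n : G) = 1
      · exact ⟨0, by rw [← Subgroup.orderOf_coe, hn1, orderOf_one, pow_zero]⟩
      · refine ⟨1, ?_⟩
        rw [← Subgroup.orderOf_coe, pow_one, ← hn₀']
        exact hconj _ n.2 _ hn₀ hn1 fun e => by rw [e, orderOf_one] at hn₀'; omega
    have := hpN.isNilpotent
    infer_instance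
  refine ⟨hUN, ?_⟩
  have := h.cyclic_twoStab hy.symm
  refine isCyclic_of_surjective ((QuotientGroup.mk' N).comp (twoStab (G := G) x y).subtype)
    fun q => ?_
  obtain ⟨g, rfl⟩ := QuotientGroup.mk'_surjective N q
  obtain ⟨n, hn', hnx⟩ := htr x (g • x)
  obtain ⟨w, hw, k, hk, e⟩ := h.stab_decomp hy.symm (g := n⁻¹ * g)
    (by rw [mul_smul, ← hnx, inv_smul_smul])
  refine ⟨⟨k, hk⟩, ?_⟩
  change QuotientGroup.mk' N k = QuotientGroup.mk' N g
  have hg : g = (n * w) * k := by rw [mul_assoc, ← e, mul_inv_cancel_left]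
  have hnw : QuotientGroup.mk' N (n * w) = 1 :=
    (QuotientGroup.eq_one_iff _).2 (mul_mem hn' (hUN hw))
  rw [hg, map_mul, hnw, one_mul]

theorem not_cyclic_sylow (h : Hyp G Ω) (S : Sylow 2 G) : ¬ IsCyclic (S : Subgroup G) := by
  intro hS
  have := h.faithful
  have := card_eq_two_of_cyclic_sylow h.two h.even h.nonempty S hS
  have := h.four
  omega

/-- Every automorphism of the translations comes from the stabiliser. -/
theorem conj_surj (h : Hyp G Ω) {p : ℕ} (hp : p.Prime) (hn : Nat.card Ω = p + 1) {a b : Ω}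
    (hab : a ≠ b) (φ : MulAut (UU (G := G) a)) :
    ∃ k ∈ twoStab (G := G) a b, ∀ w : UU (G := G) a, (φ w : G) = k * w * k⁻¹ := by
  have := h.cyclic_UU a
  set K := twoStab (G := G) a b
  have hKN : K ≤ Subgroup.normalizer ((UU (G := G) a) : Set G) := fun k hk => stab_le_normalizer_UU a hk.1
  let ψ : K →* MulAut (UU (G := G) a) := (UU (G := G) a).normalizerMonoidHom.comp (Subgroup.inclusion hKN)
  have hψ : Function.Injective ψ := by
    rw [injective_iff_map_eq_one]
    intro k hk
    refine Subtype.ext (h.twoStab_faithful hab k.2 fun w hw => ?_)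
    have := congrArg (fun φ : MulAut (UU (G := G) a) => ((φ ⟨w, hw⟩ : (UU (G := G) a)) : G)) hk
    exact mul_inv_eq_iff_eq_mul.1 this
  have hsurj : Function.Surjective ψ := by
    refine ((Nat.bijective_iff_injective_and_card ψ).2 ⟨hψ, ?_⟩).2
    have h2 : Nat.card K + 2 = Nat.card Ω := h.conclusion.card_two a b hab
    rw [IsCyclic.card_mulAut, show Nat.card (UU (G := G) a) = p from card_UU_eq h hn a, Nat.totient_prime hp]
    omega
  obtain ⟨k, hk⟩ := hsurj φ
  exact ⟨k, k.2, fun w => by rw [← hk]; rfl⟩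

/-- The group is `PGL(2, p)`. -/
theorem exists_pgl (h : Hyp G Ω) {p : ℕ} [Fact p.Prime] (hn : Nat.card Ω = p + 1) :
    Nonempty (G ≃* Matrix.ProjGenLinGroup (Fin 2) (ZMod p)) := by
  classical
  have := h.faithful
  have := h.pretrans
  have := Fintype.ofFinite Ω
  set H := (MulAction.toPermHom G Ω).range
  let e : G ≃* H := MonoidHom.ofInjective MulAction.toPerm_injective
  have hp : p.Prime := Fact.out
  have hd : p - 1 + 1 = p := by have := hp.one_le; omega
  have hH : Nat.card H = (p + 1) * p * (p - 1) := by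
    rw [← Nat.card_congr e.toEquiv]; exact card_group h hn hd
  have hα : Fintype.card Ω = p + 1 := by rw [← Nat.card_eq_fintype_card, hn]
  have : IsPretransitive H Ω := ⟨fun x y => by
    obtain ⟨g, hg⟩ := MulAction.exists_smul_eq G x y
    exact ⟨e g, hg⟩⟩
  obtain ⟨a, π, ι, hF⟩ := Cfsg.Agent.Perm.PrimeAddOne.exists_frame (G := H) hp hα
    (hH ▸ Dvd.dvd.mul_right (dvd_mul_left p (p + 1)) (p - 1))
  obtain ⟨ψ⟩ := Cfsg.Agent.Perm.PrimeAddOne.pgl_of_full hα hH hd hF
  exact ⟨e.trans ψ⟩

end Cfsg.Agent.H36.CyZ
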